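import Groth.Agent.S12463
import Groth.Agent.S7652
import Groth.Agent.MiscFlat6.NormalLowDim
import Groth.Prelude.Def_Brnch
import Groth.Prelude.Def_Curv2

/-!
# Branches and the `δ`-invariant
-/

set_option autoImplicit false
set_option linter.style.haveILetI false

universe u

open IsLocalRing

noncomputable section

namespace MultiPtLib

/-- For a reduced ring the normalisation of the reduction is the integral closure. -/
theorem exists_normRed_equiv (A : Type u) [CommRing A] [_root_.IsReduced A] :
    Nonempty (↥(integralClosure A (FractionRing A)) ≃ₐ[A] CAlg2.normRed A) := by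
  have hbij : Function.Bijective (Ideal.Quotient.mk (nilradical A)) :=
    ⟨(RingHom.injective_iff_ker_eq_bot _).2 (by rw [Ideal.mk_ker, nilradical_eq_zero]; rfl),
      Ideal.Quotient.mk_surjective⟩
  haveI : IsFractionRing A (FractionRing (CAlg2.red A)) := by
    constructor
    constructor
    · rintro ⟨y, hy⟩
      rw [IsScalarTower.algebraMap_apply A (CAlg2.red A)]
      refine IsLocalization.map_units (M := nonZeroDivisors (CAlg2.red A)) _ ⟨_, ?_⟩
      rw [mem_nonZeroDivisors_iff_right] at hy ⊢
      intro z hz
      obtain ⟨z, rfl⟩ := hbij.2 z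
      have : z * y = 0 := hbij.1 (by rw [map_mul, map_zero]; exact hz)
      rw [hy z this, map_zero]
    · intro z
      obtain ⟨⟨a, s⟩, h⟩ := IsLocalization.surj (nonZeroDivisors (CAlg2.red A)) z
      obtain ⟨a, rfl⟩ := hbij.2 a
      obtain ⟨t, ht⟩ := hbij.2 s
      have ht' : t ∈ nonZeroDivisors A := by
        rw [mem_nonZeroDivisors_iff_right]
        intro w hw
        refine hbij.1 ((mem_nonZeroDivisors_iff_right.1 s.2 _ ?_).trans (map_zero _).symm)
        rw [← ht, ← map_mul, hw, map_zero]
      refine ⟨(a, ⟨t, ht'⟩), ?_⟩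
      rw [IsScalarTower.algebraMap_apply A (CAlg2.red A), IsScalarTower.algebraMap_apply A (CAlg2.red A)]
      change z * algebraMap (CAlg2.red A) _ (Ideal.Quotient.mk _ t) = _
      rw [ht]
      exact h
    · intro x y h
      rw [IsScalarTower.algebraMap_apply A (CAlg2.red A), IsScalarTower.algebraMap_apply A (CAlg2.red A)] at h
      exact ⟨1, congrArg _ (hbij.1 (IsFractionRing.injective (CAlg2.red A) _ h))⟩
  let e : FractionRing A ≃ₐ[A] FractionRing (CAlg2.red A) := IsLocalization.algEquiv (nonZeroDivisors A) _ _
  let ψ : ↥(integralClosure A (FractionRing A)) ≃ₐ[A] CAlg2.normRed A :=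
    { toFun := fun x => ⟨e x.1, IsIntegral.tower_top (R := A) (x.2.map e.toAlgHom)⟩
      invFun := fun x => ⟨e.symm x.1, (isIntegral_trans (A := CAlg2.red A) x.1 x.2).map e.symm.toAlgHom⟩
      left_inv := fun x => Subtype.ext (e.symm_apply_apply _)
      right_inv := fun x => Subtype.ext (e.apply_symm_apply _)
      map_mul' := fun x y => Subtype.ext (map_mul e _ _)
      map_add' := fun x y => Subtype.ext (map_add e _ _)
      commutes' := fun r => Subtype.ext (e.commutes r) }
  exact ⟨ψ⟩

/-- Branches are the maximal ideals of the integral closure. -/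
theorem numBranches_eq_card (A : Type u) [CommRing A] [IsLocalRing A] [IsNoetherianRing A] [_root_.IsReduced A] :
    Brnch.numBranches A = ENat.card (MaximalSpectrum ↥(integralClosure A (FractionRing A))) := by
  obtain ⟨ψ⟩ := exists_normRed_equiv A
  rw [Brnch.numBranches, if_pos (minimalPrimes.finite_of_isNoetherianRing A)]
  refine ENat.card_congr
    { toFun := fun m => ⟨m.asIdeal.comap ψ.toRingEquiv.toRingHom,
        Ideal.comap_isMaximal_of_surjective _ ψ.surjective (H := m.isMaximal)⟩
      invFun := fun m => ⟨m.asIdeal.comap ψ.symm.toRingEquiv.toRingHom,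
        Ideal.comap_isMaximal_of_surjective _ ψ.symm.surjective (H := m.isMaximal)⟩
      left_inv := fun m => MaximalSpectrum.ext (Ideal.ext fun z => by simp)
      right_inv := fun m => MaximalSpectrum.ext (Ideal.ext fun z => by simp) }

theorem one_le_numBranches (A : Type u) [CommRing A] [IsLocalRing A] [IsNoetherianRing A] [_root_.IsReduced A] :
    1 ≤ Brnch.numBranches A := by
  rw [numBranches_eq_card]
  obtain ⟨m, hm⟩ := Ideal.exists_maximal ↥(integralClosure A (FractionRing A))
  haveI : Nonempty (MaximalSpectrum ↥(integralClosure A (FractionRing A))) := ⟨⟨m, hm⟩⟩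
  exact Order.one_le_iff_pos.2 ENat.card_pos

theorem numBranches_le_deltaInv_succ (A : Type u) [CommRing A] [IsLocalRing A] [_root_.IsReduced A]
    (hN : CAlg.IsNagata A) (hdim : ringKrullDim A = 1) :
    Brnch.numBranches A ≤ Curv2.deltaInv A + 1 := by
  classical
  haveI := hN.1
  obtain ⟨hfin, -, hdelta⟩ := Groth.Agent.S7652.result A hN hdim
  haveI := hfin
  obtain ⟨δ, hδ⟩ := ENat.ne_top_iff_exists.1 hdelta.ne
  set C := ↥(integralClosure A (FractionRing A))
  have hlen : ∀ m : MaximalSpectrum C, 1 ≤ Module.length A (C ⧸ m.asIdeal) := fun m =>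
    Order.one_le_iff_ne_zero.2 fun h => by
      haveI := Module.length_eq_zero_iff.1 h
      haveI := Ideal.Quotient.nontrivial_iff.2 m.isMaximal.ne_top
      exact not_subsingleton (C ⧸ m.asIdeal) inferInstance
  have hfin : ∀ s : Finset (MaximalSpectrum C), (s.card : ℕ∞) ≤ δ + 1 := fun s => by
    obtain ⟨P, -, -, h⟩ := Groth.Agent.S12463.length_key (A := A) s
    have hd : Module.length A (C ⧸ LinearMap.range (Algebra.linearMap A C)) = (δ : ℕ∞) := hδ.symm
    rw [hd] at h
    refine le_trans ?_ (le_trans le_self_add h)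
    refine le_trans ?_ (Finset.sum_le_sum fun (m : s) _ => hlen m.1)
    simp
  haveI : Finite (MaximalSpectrum C) := by
    by_contra hinf
    rw [not_finite_iff_infinite] at hinf
    obtain ⟨s, hs⟩ := Infinite.exists_subset_card_eq (MaximalSpectrum C) (δ + 2)
    have := hfin s
    rw [hs] at this
    norm_cast at this
    omega
  haveI := Fintype.ofFinite (MaximalSpectrum C)
  rw [numBranches_eq_card, ← hδ, ENat.card_eq_coe_fintype_card]
  exact hfin Finset.univ

end MultiPtLib

namespace MultiPtLib

open CategoryTheory AlgebraicGeometry TopologicalSpace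

/-- A closed point of a scheme all of whose components are curves has a one-dimensional local ring. -/
theorem ringKrullDim_stalk_closed {X : Scheme.{u}} (hX : topologicalKrullDim X ≤ 1)
    (hequi : ∀ Z ∈ irreducibleComponents (X : Type u), topologicalKrullDim Z = 1)
    {x : X} (hx : IsClosed ({x} : Set X)) : ringKrullDim (X.presheaf.stalk x) = 1 := by
  refine le_antisymm ((MiscFlat6.ringKrullDim_stalk_le X x).trans hX) ?_
  obtain ⟨Z, hZ, hxZ⟩ := Set.mem_sUnion.mp (sUnion_irreducibleComponents (X := (X : Type u)).ge (Set.mem_univ x))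
  obtain ⟨η, hη⟩ := QuasiSober.sober hZ.1 (isClosed_of_mem_irreducibleComponents Z hZ)
  have hne : η ≠ x := fun h => by
    have hZx : Z = {x} := by rw [← hη.def, h, hx.closure_eq]
    haveI : Subsingleton Z := (Set.subsingleton_coe Z).2 (hZx ▸ Set.subsingleton_singleton)
    haveI : Nonempty Z := ⟨⟨x, hxZ⟩⟩
    haveI : DiscreteTopology Z := Subsingleton.discreteTopology
    have h0 := topologicalKrullDim_zero_of_discreteTopology (X := Z)
    rw [hequi Z hZ] at h0
    exact absurd h0 (by norm_num)
  have hsp : η ⤳ x := hη.specializes hxZ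
  letI := specializationPreorder X
  have hlt : x < η := lt_iff_le_not_ge.2 ⟨hsp, fun h => hne (Inseparable.eq (Specializes.antisymm h hsp)).symm⟩
  rw [ringKrullDim_stalk_eq_coheight]
  exact_mod_cast Order.one_le_iff_pos.2 (Order.coheight_pos.2 (not_isMax_of_lt hlt))

end MultiPtLib

end
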