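import Mathlib.RingTheory.MvPowerSeries.Basic
import Mathlib.RingTheory.PowerSeries.Basic
import Mathlib.Data.Finsupp.Antidiagonal
import Mathlib.RingTheory.Ideal.Quotient.Operations

/-!
# `k[[T_1, …, T_n]]/(T_i T_j)` is the multicross
-/

set_option autoImplicit false

universe u

noncomputable section

namespace MultiPtLib

variable {k : Type u} [Field k] {n : ℕ}

/-- Restriction to the `i`-th axis. -/
def axis (i : Fin n) : MvPowerSeries (Fin n) k →+* PowerSeries k where
  toFun f := PowerSeries.mk fun l => MvPowerSeries.coeff (Finsupp.single i l) f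
  map_one' := PowerSeries.ext fun l => by
    rw [PowerSeries.coeff_mk, PowerSeries.coeff_one, MvPowerSeries.coeff_one]
    simp [Finsupp.single_eq_zero]
  map_zero' := PowerSeries.ext fun l => by simp
  map_add' f g := PowerSeries.ext fun l => by simp
  map_mul' f g := PowerSeries.ext fun l => by
    classical
    rw [PowerSeries.coeff_mk, PowerSeries.coeff_mul, MvPowerSeries.coeff_mul, Finsupp.antidiagonal_single,
      Finset.sum_map]
    refine Finset.sum_congr rfl fun p _ => ?_
    rw [PowerSeries.coeff_mk, PowerSeries.coeff_mk]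
    rfl

theorem coeff_axis (i : Fin n) (f : MvPowerSeries (Fin n) k) (l : ℕ) :
    PowerSeries.coeff l (axis i f) = MvPowerSeries.coeff (Finsupp.single i l) f :=
  PowerSeries.coeff_mk l fun l => MvPowerSeries.coeff (Finsupp.single i l) f

theorem axis_C (i : Fin n) (c : k) : axis i (MvPowerSeries.C c) = PowerSeries.C c := by
  classical
  refine PowerSeries.ext fun l => ?_
  rw [coeff_axis, MvPowerSeries.coeff_C, PowerSeries.coeff_C]
  simp [Finsupp.single_eq_zero]

/-- All axes together. -/
def axes : MvPowerSeries (Fin n) k →+* (Fin n → PowerSeries k) := Pi.ringHom fun i => axis i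

theorem range_axes (hn : 0 < n) : Set.range (axes (k := k) (n := n)) = {f : Fin n → PowerSeries k |
    ∀ i j : Fin n, PowerSeries.constantCoeff (f i) = PowerSeries.constantCoeff (f j)} := by
  classical
  refine Set.Subset.antisymm ?_ fun f hf => ?_
  · rintro _ ⟨g, rfl⟩ i j
    rw [← PowerSeries.coeff_zero_eq_constantCoeff_apply, ← PowerSeries.coeff_zero_eq_constantCoeff_apply]
    show PowerSeries.coeff 0 (axis i g) = PowerSeries.coeff 0 (axis j g)
    rw [coeff_axis, coeff_axis, Finsupp.single_zero, Finsupp.single_zero]
  · let G : MvPowerSeries (Fin n) k := fun e =>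
      if h : ∃ i, e = Finsupp.single i (e i) then PowerSeries.coeff (e h.choose) (f h.choose) else 0
    have hG : ∀ i l, MvPowerSeries.coeff (Finsupp.single i l) G = PowerSeries.coeff l (f i) := by
      intro i l
      have h : ∃ j, Finsupp.single i l = Finsupp.single j ((Finsupp.single i l : Fin n →₀ ℕ) j) := ⟨i, by rw [Finsupp.single_eq_same]⟩
      show G (Finsupp.single i l) = _
      simp only [G, dif_pos h]
      have hs := h.choose_spec
      generalize h.choose = j at hs ⊢
      by_cases hij : i = j
      · subst hij; rw [Finsupp.single_eq_same]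
      · rw [Finsupp.single_eq_of_ne (Ne.symm hij), Finsupp.single_zero, Finsupp.single_eq_zero] at hs
        subst hs
        rw [Finsupp.single_zero, Finsupp.coe_zero, Pi.zero_apply, PowerSeries.coeff_zero_eq_constantCoeff_apply,
          PowerSeries.coeff_zero_eq_constantCoeff_apply]
        exact hf j i
    exact ⟨G, funext fun i => PowerSeries.ext fun l => (coeff_axis i G l).trans (hG i l)⟩

theorem ker_axes (hn : 0 < n) : RingHom.ker (axes (k := k) (n := n)) =
    Ideal.span {f : MvPowerSeries (Fin n) k | ∃ i j : Fin n, i ≠ j ∧ f = MvPowerSeries.X i * MvPowerSeries.X j} := by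
  classical
  let I := Ideal.span {f : MvPowerSeries (Fin n) k | ∃ i j : Fin n, i ≠ j ∧ f = MvPowerSeries.X i * MvPowerSeries.X j}
  refine le_antisymm (fun f hf => ?_) ?_
  · rw [RingHom.mem_ker] at hf
    have hz : ∀ i l, MvPowerSeries.coeff (Finsupp.single i l) f = 0 := fun i l => by
      rw [← coeff_axis, show axis i f = 0 from congrFun hf i, map_zero]
    let P : Finset (Fin n × Fin n) := Finset.univ.filter fun p => p.1 ≠ p.2
    let V : Finset (Fin n × Fin n) → (Fin n →₀ ℕ) → Prop := fun S e => ∃ p ∈ S, 1 ≤ e p.1 ∧ 1 ≤ e p.2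
    have key : ∀ S ⊆ P, ∀ g : MvPowerSeries (Fin n) k, (∀ e, ¬ V S e → MvPowerSeries.coeff e g = 0) → g ∈ I := by
      intro S
      induction S using Finset.induction_on with
      | empty =>
        intro _ g hg
        rw [show g = 0 from MvPowerSeries.ext fun e => by
          rw [map_zero]; exact hg e fun ⟨p, hp, _⟩ => absurd hp (Finset.notMem_empty p)]
        exact Submodule.zero_mem _
      | insert p S hp ih =>
        intro hS g hg
        have hne : p.1 ≠ p.2 := (Finset.mem_filter.1 (hS (Finset.mem_insert_self p S))).2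
        let d : Fin n →₀ ℕ := Finsupp.single p.1 1 + Finsupp.single p.2 1
        let q : MvPowerSeries (Fin n) k := fun e => MvPowerSeries.coeff (e + d) g
        let g' : MvPowerSeries (Fin n) k := g - MvPowerSeries.X p.1 * MvPowerSeries.X p.2 * q
        have hd : ∀ e : Fin n →₀ ℕ, d ≤ e ↔ 1 ≤ e p.1 ∧ 1 ≤ e p.2 := fun e => by
          refine ⟨fun h => ⟨?_, ?_⟩, fun ⟨h1, h2⟩ a => ?_⟩
          · have := h p.1
            simp [d, hne] at this
            omega
          · have := h p.2
            simp [d, hne.symm] at this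
            omega
          · simp only [d, Finsupp.coe_add, Pi.add_apply, Finsupp.single_apply]
            split_ifs with ha hb hb
            · exact absurd (ha.trans hb.symm) hne
            · subst ha; omega
            · subst hb; omega
            · omega
        have hmul : MvPowerSeries.X p.1 * MvPowerSeries.X p.2 = MvPowerSeries.monomial d (1 : k) := by
          rw [MvPowerSeries.X_def, MvPowerSeries.X_def, MvPowerSeries.monomial_mul_monomial, one_mul]
        have hg' : g' ∈ I := ih ((Finset.subset_insert p S).trans hS) g' fun e he => by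
          simp only [g', map_sub, hmul, MvPowerSeries.coeff_monomial_mul]
          by_cases hde : d ≤ e
          · rw [if_pos hde, one_mul, show MvPowerSeries.coeff (e - d) q = MvPowerSeries.coeff (e - d + d) g from rfl,
              tsub_add_cancel_of_le hde, sub_self]
          · rw [if_neg hde, sub_zero]
            refine hg e fun ⟨r, hr, hre⟩ => ?_
            rcases Finset.mem_insert.1 hr with rfl | hr
            · exact hde ((hd e).2 hre)
            · exact he ⟨r, hr, hre⟩
        rw [show g = g' + MvPowerSeries.X p.1 * MvPowerSeries.X p.2 * q by simp [g']]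
        exact add_mem hg' (Ideal.mul_mem_right _ _ (Ideal.subset_span ⟨p.1, p.2, hne, rfl⟩))
    refine key P subset_rfl f fun e he => ?_
    by_cases h : ∃ i, ∀ j, j ≠ i → e j = 0
    · obtain ⟨i, hi⟩ := h
      rw [show e = Finsupp.single i (e i) from Finsupp.ext fun j => by
        rcases eq_or_ne j i with rfl | hj
        · rw [Finsupp.single_eq_same]
        · rw [Finsupp.single_eq_of_ne hj, hi j hj]]
      exact hz _ _
    · push_neg at h
      obtain ⟨i, -, hi⟩ := h ⟨0, hn⟩
      obtain ⟨j, hji, hj⟩ := h i
      exact absurd ⟨(i, j), Finset.mem_filter.2 ⟨Finset.mem_univ _, hji.symm⟩,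
        Nat.one_le_iff_ne_zero.2 hi, Nat.one_le_iff_ne_zero.2 hj⟩ he
  · rw [Ideal.span_le]
    rintro _ ⟨i, j, hij, rfl⟩
    rw [SetLike.mem_coe, RingHom.mem_ker]
    refine funext fun a => PowerSeries.ext fun l => ?_
    show PowerSeries.coeff l (axis a (MvPowerSeries.X i * MvPowerSeries.X j)) = PowerSeries.coeff l (0 : PowerSeries k)
    rw [coeff_axis, map_zero, MvPowerSeries.X_def, MvPowerSeries.X_def, MvPowerSeries.monomial_mul_monomial,
      MvPowerSeries.coeff_monomial, if_neg]
    intro h
    have h1 := DFunLike.congr_fun h i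
    have h2 := DFunLike.congr_fun h j
    rcases eq_or_ne a i with rfl | hai
    · simp [hij.symm] at h2
    · simp [hij, hai] at h1

/-- The quotient by the mixed monomials embeds as the multicross. -/
theorem exists_quot_hom (hn : 0 < n) :
    ∃ ψ : (MvPowerSeries (Fin n) k ⧸ Ideal.span {f : MvPowerSeries (Fin n) k |
        ∃ i j : Fin n, i ≠ j ∧ f = MvPowerSeries.X i * MvPowerSeries.X j}) →+* (Fin n → PowerSeries k),
      Function.Injective ψ ∧ (∀ c : k, ψ (Ideal.Quotient.mk _ (MvPowerSeries.C c)) = fun _ => PowerSeries.C c) ∧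
      Set.range ψ = {f : Fin n → PowerSeries k | ∀ i j : Fin n,
        PowerSeries.constantCoeff (f i) = PowerSeries.constantCoeff (f j)} := by
  refine ⟨Ideal.Quotient.lift _ (axes (k := k)) fun a ha => RingHom.mem_ker.1 ((ker_axes (k := k) hn).symm ▸ ha), ?_, fun c => ?_, ?_⟩
  · refine RingHom.lift_injective_of_ker_le_ideal _ _ (ker_axes (k := k) hn).le
  · exact funext fun i => axis_C i c
  · rw [← range_axes hn]
    ext f
    constructor
    · rintro ⟨x, rfl⟩
      obtain ⟨x, rfl⟩ := Ideal.Quotient.mk_surjective x
      exact ⟨x, rfl⟩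
    · rintro ⟨x, rfl⟩
      exact ⟨Ideal.Quotient.mk _ x, rfl⟩

end MultiPtLib

end
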