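import Mathlib.RingTheory.PowerSeries.Trunc
import Mathlib.RingTheory.DiscreteValuationRing.Basic
import Mathlib.Algebra.Polynomial.AlgebraMap
import Mathlib.RingTheory.LocalRing.ResidueField.Basic
import Mathlib.Algebra.Polynomial.RingDivision

/-!
# Expansion in a uniformising parameter
-/

set_option autoImplicit false

universe u

open IsLocalRing

noncomputable section

namespace MultiPtLib

variable (k : Type u) [Field k] {D : Type u} [CommRing D] [IsDomain D] [IsDiscreteValuationRing D] [Algebra k D]
  (hres : Function.Surjective (algebraMap k (ResidueField D))) {π : D} (hπ : maximalIdeal D = Ideal.span {π})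

include hres hπ in
theorem exists_poly (x : D) (N : ℕ) : ∃ p : Polynomial k, π ^ N ∣ x - Polynomial.aeval π p := by
  induction N with
  | zero => exact ⟨0, by simp⟩
  | succ N ih =>
    obtain ⟨p, y, hy⟩ := ih
    obtain ⟨c, hc⟩ := hres (residue D y)
    have hm : y - algebraMap k D c ∈ maximalIdeal D := by
      rw [← residue_eq_zero_iff, map_sub, ← hc, sub_eq_zero]
      exact IsScalarTower.algebraMap_apply k D (ResidueField D) c
    rw [hπ, Ideal.mem_span_singleton] at hm
    obtain ⟨z, hz⟩ := hm
    refine ⟨p + Polynomial.C c * Polynomial.X ^ N, z, ?_⟩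
    rw [map_add, map_mul, map_pow, Polynomial.aeval_C, Polynomial.aeval_X, ← sub_sub, hy, pow_succ]
    linear_combination π ^ N * hz

include hπ in
theorem pow_dvd_aeval_iff (p : Polynomial k) (N : ℕ) : π ^ N ∣ Polynomial.aeval π p ↔ Polynomial.X ^ N ∣ p := by
  refine ⟨fun h => ?_, fun h => by simpa using map_dvd (Polynomial.aeval π) h⟩
  by_cases hp : p = 0
  · rw [hp]; exact dvd_zero _
  obtain ⟨q, hq, hdvd⟩ := Polynomial.exists_eq_pow_rootMultiplicity_mul_and_not_dvd p hp 0
  rw [map_zero, sub_zero] at hq hdvd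
  generalize Polynomial.rootMultiplicity 0 p = j at hq
  have hq0 : q.coeff 0 ≠ 0 := fun h0 => hdvd (Polynomial.X_dvd_iff.2 h0)
  have hu : IsUnit (Polynomial.aeval π q) := by
    obtain ⟨r, hr⟩ := Polynomial.X_dvd_iff.2 (show (q - Polynomial.C (q.coeff 0)).coeff 0 = 0 by simp)
    have hqe : q = Polynomial.C (q.coeff 0) + Polynomial.X * r := by rw [← hr]; ring
    rw [hqe, map_add, map_mul, Polynomial.aeval_C, Polynomial.aeval_X]
    by_contra hn
    have h1 : algebraMap k D (q.coeff 0) + π * Polynomial.aeval π r ∈ maximalIdeal D := hn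
    have h2 : π * Polynomial.aeval π r ∈ maximalIdeal D := by
      rw [hπ]; exact Ideal.mul_mem_right _ _ (Ideal.mem_span_singleton_self _)
    have h3 : algebraMap k D (q.coeff 0) ∈ maximalIdeal D := by simpa using (maximalIdeal D).sub_mem h1 h2
    exact h3 ((isUnit_iff_ne_zero.2 hq0).map _)
  rw [hq, map_mul, map_pow, Polynomial.aeval_X, hu.dvd_mul_right] at h
  have hπ0 : π ≠ 0 := fun h0 => IsDiscreteValuationRing.not_a_field D (by rw [hπ, h0, Ideal.span_singleton_eq_bot])
  have hπu : ¬ IsUnit π := fun hu' => (maximalIdeal.isMaximal D).ne_top (by rw [hπ, Ideal.span_singleton_eq_top.2 hu'])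
  have hle : N ≤ j := (pow_dvd_pow_iff hπ0 hπu).1 h
  rw [hq]
  exact dvd_mul_of_dvd_left (pow_dvd_pow _ hle) _

/-- The expansion of an element in a uniformiser. -/
def expand (x : D) : PowerSeries k :=
  PowerSeries.mk fun n => (exists_poly k hres hπ x (n + 1)).choose.coeff n

theorem coeff_expand {x : D} {N : ℕ} {p : Polynomial k} (h : π ^ N ∣ x - Polynomial.aeval π p) {n : ℕ} (hn : n < N) :
    PowerSeries.coeff n (expand k hres hπ x) = p.coeff n := by
  rw [expand, PowerSeries.coeff_mk]
  set q := (exists_poly k hres hπ x (n + 1)).choose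
  have h1 := (exists_poly k hres hπ x (n + 1)).choose_spec
  have h2 : π ^ (n + 1) ∣ Polynomial.aeval π (p - q) := by
    have h4 := dvd_sub h1 ((pow_dvd_pow π (Nat.succ_le_of_lt hn)).trans h)
    rw [map_sub]
    convert h4 using 1
    ring
  have h3 := Polynomial.X_pow_dvd_iff.1 ((pow_dvd_aeval_iff k hπ _ _).1 h2) n (Nat.lt_succ_self n)
  rw [Polynomial.coeff_sub, sub_eq_zero] at h3
  exact h3.symm

/-- The expansion as a ring map. -/
def expandHom : D →+* PowerSeries k where
  toFun := expand k hres hπ
  map_one' := PowerSeries.ext fun n => by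
    rw [coeff_expand k hres hπ (p := 1) (N := n + 1) (by simp) (Nat.lt_succ_self n), Polynomial.coeff_one,
      PowerSeries.coeff_one]
  map_zero' := PowerSeries.ext fun n => by
    rw [coeff_expand k hres hπ (p := 0) (N := n + 1) (by simp) (Nat.lt_succ_self n), Polynomial.coeff_zero,
      map_zero]
  map_add' x y := PowerSeries.ext fun n => by
    obtain ⟨p, hp⟩ := exists_poly k hres hπ x (n + 1)
    obtain ⟨q, hq⟩ := exists_poly k hres hπ y (n + 1)
    have h : π ^ (n + 1) ∣ x + y - Polynomial.aeval π (p + q) := by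
      rw [map_add, add_sub_add_comm]; exact dvd_add hp hq
    rw [map_add, coeff_expand k hres hπ h (Nat.lt_succ_self n), coeff_expand k hres hπ hp (Nat.lt_succ_self n),
      coeff_expand k hres hπ hq (Nat.lt_succ_self n), Polynomial.coeff_add]
  map_mul' x y := PowerSeries.ext fun n => by
    obtain ⟨p, hp⟩ := exists_poly k hres hπ x (n + 1)
    obtain ⟨q, hq⟩ := exists_poly k hres hπ y (n + 1)
    have h : π ^ (n + 1) ∣ x * y - Polynomial.aeval π (p * q) := by
      rw [map_mul, show x * y - Polynomial.aeval π p * Polynomial.aeval π q =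
        (x - Polynomial.aeval π p) * y + Polynomial.aeval π p * (y - Polynomial.aeval π q) by ring]
      exact dvd_add (hp.mul_right _) (hq.mul_left _)
    rw [coeff_expand k hres hπ h (Nat.lt_succ_self n), PowerSeries.coeff_mul, Polynomial.coeff_mul]
    refine Finset.sum_congr rfl fun ij hij => ?_
    rw [Finset.mem_antidiagonal] at hij
    rw [coeff_expand k hres hπ hp (Nat.lt_succ_of_le (by omega)),
      coeff_expand k hres hπ hq (Nat.lt_succ_of_le (by omega))]

theorem expandHom_algebraMap (c : k) : expandHom k hres hπ (algebraMap k D c) = PowerSeries.C c := by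
  refine PowerSeries.ext fun n => ?_
  show PowerSeries.coeff n (expand k hres hπ _) = _
  rw [coeff_expand k hres hπ (p := Polynomial.C c) (N := n + 1) (by simp) (Nat.lt_succ_self n), Polynomial.coeff_C,
    PowerSeries.coeff_C]

theorem expand_eq_zero_iff {x : D} {N : ℕ} :
    (∀ n < N, PowerSeries.coeff n (expandHom k hres hπ x) = 0) ↔ π ^ N ∣ x := by
  refine ⟨fun h => ?_, fun h n hn => ?_⟩
  · obtain ⟨p, hp⟩ := exists_poly k hres hπ x N
    have h1 : Polynomial.X ^ N ∣ p := Polynomial.X_pow_dvd_iff.2 fun n hn =>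
      (coeff_expand k hres hπ hp hn).symm.trans (h n hn)
    simpa using dvd_add hp ((pow_dvd_aeval_iff k hπ p N).2 h1)
  · show PowerSeries.coeff n (expand k hres hπ x) = 0
    rw [coeff_expand k hres hπ (p := 0) (N := N) (by simpa using h) hn, Polynomial.coeff_zero]

theorem expandHom_aeval (p : Polynomial k) (n : ℕ) :
    PowerSeries.coeff n (expandHom k hres hπ (Polynomial.aeval π p)) = p.coeff n :=
  coeff_expand k hres hπ (N := n + 1) (by simp) (Nat.lt_succ_self n)

end MultiPtLib

end
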