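import Groth.Agent.MultiPtLib.Branch
import Groth.Agent.NormGenusLib.Euler
import Groth.Agent.DeltaBaseLib.Main
import Groth.Agent.S9679

/-!
# Arithmetic genus and ordinary multiple points
-/

set_option autoImplicit false
set_option linter.style.haveILetI false
set_option maxHeartbeats 1000000

universe u

open CategoryTheory CategoryTheory.Limits AlgebraicGeometry TopologicalSpace
open scoped Classical
attribute [local instance] Curv2.resAlgebra

noncomputable section

namespace MultiPtLib

theorem isGen_of_component {α : Type u} [TopologicalSpace α] [T0Space α] [QuasiSober α] {η : α}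
    (h : closure ({η} : Set α) ∈ irreducibleComponents α) : FinPicLib.IsGen η := fun z hz =>
  IsGenericPoint.eq (S := closure ({η} : Set α))
    (h.eq_of_le isIrreducible_singleton.closure (closure_minimal (Set.singleton_subset_iff.2
      (specializes_iff_mem_closure.1 hz)) isClosed_closure)).symm isGenericPoint_closure

theorem natCard_connectedComponents_normal (X : Scheme.{u}) [NoetherianSpace X] (hN : Pi1.IsNormalScheme X) :
    Nat.card (_root_.ConnectedComponents X) = Nat.card (irreducibleComponents (X : Type u)) := by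
  obtain ⟨ho, hd⟩ := MiscFlat6.components_of_normal X (fun U _ => by
    haveI : NoetherianSpace ↥U := U.isOpen.isOpenEmbedding_subtypeVal.isInducing.noetherianSpace
    exact NoetherianSpace.finite_irreducibleComponents) hN
  have hne : ∀ Z : irreducibleComponents (X : Type u), ∃ z, z ∈ Z.1 := fun Z => Z.2.1.nonempty
  choose z hz using hne
  refine (Nat.card_eq_of_bijective (fun Z => (z Z : _root_.ConnectedComponents X)) ⟨fun Z Z' h => ?_, fun q => ?_⟩).symm
  · by_contra hne
    have hclo : IsClopen Z.1 := ⟨isClosed_of_mem_irreducibleComponents _ Z.2, ho _ Z.2⟩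
    have hmem : z Z' ∈ Z.1 := hclo.connectedComponent_subset (hz Z)
      (_root_.ConnectedComponents.coe_eq_coe'.1 (Eq.symm h))
    exact Set.disjoint_left.1 (hd _ Z.2 _ Z'.2 fun he => hne (Subtype.ext he)) hmem (hz Z')
  · obtain ⟨a, rfl⟩ := _root_.ConnectedComponents.surjective_coe q
    obtain ⟨Z, hZ, haZ⟩ := Set.mem_sUnion.mp (sUnion_irreducibleComponents (X := (X : Type u)).ge (Set.mem_univ a))
    exact ⟨⟨Z, hZ⟩, _root_.ConnectedComponents.coe_eq_coe'.2
      (hZ.1.isPreirreducible.isPreconnected.subset_connectedComponent haZ (hz ⟨Z, hZ⟩))⟩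

theorem natCard_components_eq {X X' : Scheme.{u}} (π : X' ⟶ X)
    (hbij : Set.BijOn (fun x' : X' => π x') {x' : X' | closure ({x'} : Set X') ∈ irreducibleComponents (X' : Type u)}
      {x : X | closure ({x} : Set X) ∈ irreducibleComponents (X : Type u)}) :
    Nat.card (irreducibleComponents (X' : Type u)) = Nat.card (irreducibleComponents (X : Type u)) := by
  have key : ∀ Y : Scheme.{u}, Nat.card {y : Y | closure ({y} : Set Y) ∈ irreducibleComponents (Y : Type u)} =
      Nat.card (irreducibleComponents (Y : Type u)) := fun Y => by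
    refine Nat.card_eq_of_bijective (fun y => ⟨closure {y.1}, y.2⟩) ⟨fun a b h => Subtype.ext ?_, fun Z => ?_⟩
    · have h1 : closure ({a.1} : Set Y) = closure {b.1} := congrArg Subtype.val h
      exact IsGenericPoint.eq (show IsGenericPoint a.1 (closure {b.1}) from h1) isGenericPoint_closure
    · obtain ⟨η, hη⟩ := QuasiSober.sober Z.2.1 (isClosed_of_mem_irreducibleComponents _ Z.2)
      have h1 : closure ({η} : Set Y) = Z.1 := hη.def
      exact ⟨⟨η, show closure ({η} : Set Y) ∈ irreducibleComponents (Y : Type u) from h1 ▸ Z.2⟩, Subtype.ext h1⟩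
  rw [← key, ← key]
  exact Nat.card_congr hbij.equiv

/-- A finite map bijective on generic points with equal residue fields is birational. -/
theorem exists_birational_open {X X' : Scheme.{u}} [IsReduced X] [IsReduced X'] [NoetherianSpace X] [NoetherianSpace X']
    (π : X' ⟶ X) [IsFinite π]
    (hbij : Set.BijOn (fun x' : X' => π x') {x' : X' | closure ({x'} : Set X') ∈ irreducibleComponents (X' : Type u)}
      {x : X | closure ({x} : Set X) ∈ irreducibleComponents (X : Type u)})
    (hres : ∀ x' : X', closure ({x'} : Set X') ∈ irreducibleComponents (X' : Type u) →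
      Function.Bijective (π.residueFieldMap x').hom) :
    ∃ U : X.Opens, Dense (U : Set X) ∧ Dense ((π ⁻¹ᵁ U : X'.Opens) : Set X') ∧ IsIso (π ∣_ U) := by
  have hiso : ∀ x' : X', closure {x'} ∈ irreducibleComponents (X' : Type u) → IsIso (π.stalkMap x') := by
    intro x' hx'
    letI := (isField_stalk_of_closure_mem_irreducibleComponents _ x' hx').toField
    letI := (isField_stalk_of_closure_mem_irreducibleComponents _ (π x') (hbij.1 hx')).toField
    refine (ConcreteCategory.isIso_iff_bijective _).2 ⟨(π.stalkMap x').hom.injective, fun b => ?_⟩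
    obtain ⟨c, hc⟩ := (hres x' hx').2 (X'.residue x' b)
    obtain ⟨a, rfl⟩ := X.residue_surjective _ c
    refine ⟨a, (X'.residue x').hom.injective ?_⟩
    rw [← hc]
    exact (ConcreteCategory.congr_hom (Scheme.residue_residueFieldMap π x') a).symm
  obtain ⟨U, hU, hπU⟩ := Groth.Agent.S9679.result π NoetherianSpace.finite_irreducibleComponents
    NoetherianSpace.finite_irreducibleComponents hbij hiso (Or.inl inferInstance) (Or.inl ⟨inferInstance, inferInstance⟩)
  refine ⟨U, hU, fun a => ?_, hπU⟩
  obtain ⟨Z, hZ, haZ⟩ := Set.mem_sUnion.mp (sUnion_irreducibleComponents (X := (X' : Type u)).ge (Set.mem_univ a))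
  obtain ⟨η, hη⟩ := QuasiSober.sober hZ.1 (isClosed_of_mem_irreducibleComponents _ hZ)
  have hcl : closure ({η} : Set X') = Z := hη.def
  have hgen : closure ({η} : Set X') ∈ irreducibleComponents (X' : Type u) := hcl ▸ hZ
  have hm : η ∈ ((π ⁻¹ᵁ U : X'.Opens) : Set X') := FinPicLib.mem_of_dense (isGen_of_component (hbij.1 hgen)) U.isOpen hU
  exact closure_mono (Set.singleton_subset_iff.2 hm) (hcl ▸ haZ)

variable {k : Type u} [Field k] [IsAlgClosed k]

theorem genus_iff (X : Scheme.{u}) [X.Over (Spec (CommRingCat.of k))] [IsProper (X ↘ Spec (CommRingCat.of k))]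
    [IsReduced X] [ConnectedSpace X] (hequi : ∀ Z ∈ irreducibleComponents (X : Type u), topologicalKrullDim Z = 1)
    (X' : Scheme.{u}) [X'.Over (Spec (CommRingCat.of k))] (π : X' ⟶ X) [IsFinite π]
    (hπ : π ≫ (X ↘ Spec (CommRingCat.of k)) = X' ↘ Spec (CommRingCat.of k)) (hX' : Pi1.IsNormalScheme X')
    (hbij : Set.BijOn (fun x' : X' => π x') {x' : X' | closure ({x'} : Set X') ∈ irreducibleComponents (X' : Type u)}
      {x : X | closure ({x} : Set X) ∈ irreducibleComponents (X : Type u)})
    (hres : ∀ x' : X', closure ({x'} : Set X') ∈ irreducibleComponents (X' : Type u) →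
      Function.Bijective (π.residueFieldMap x').hom) :
    ((Curv2.genus k X : ℤ) = (Curv2.genus k X' : ℤ) +
        (∑ᶠ x : X, (if IsClosed ({x} : Set X) then (((Brnch.numBranchesAt X x).toNat : ℤ) - 1) else 0)) -
        (Nat.card (irreducibleComponents (X : Type u)) : ℤ) + 1) ↔
      ∀ x : X, IsClosed ({x} : Set X) → Curv2.deltaInv (X.presheaf.stalk x) + 1 = Brnch.numBranchesAt X x := by
  haveI := CurvLib.isNoetherian k (X := X)
  haveI : IsReduced X' := by
    haveI : ∀ x : X', _root_.IsReduced (X'.presheaf.stalk x) := fun x => by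
      haveI := (hX' x).1
      infer_instance
    exact isReduced_of_isReduced_stalk _
  haveI : IsProper (X' ↘ Spec (CommRingCat.of k)) := by rw [← hπ]; infer_instance
  haveI := CurvLib.isNoetherian k (X := X')
  have hd1 : topologicalKrullDim X ≤ (1 : ℕ) := FibDimLib.IsPureDim.topologicalKrullDim_le (A := X) (e := 1) hequi
  obtain ⟨U, hU, hU', hπU⟩ := exists_birational_open π hbij hres
  haveI : Coh.IsQCoh (Coh.structureModule X') := QCohLib.isQCoh_unit
  have he := NormGenusLib.euler_normalization X hd1 X' π hπ hX' U hU hU' hπU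
  have h1 : ∀ x : X, IsClosed ({x} : Set X) → Module.finrank k (X.residueField x) = 1 := fun x hx => by
    rw [← (AlgEquiv.ofBijective (Algebra.ofId k (X.residueField x))
      (NormGenusLib.resMap_bijective hx)).toLinearEquiv.finrank_eq, Module.finrank_self]
  -- the numbers at a closed point
  have hnum : ∀ x : X, IsClosed ({x} : Set X) → ∃ d m : ℕ, Curv2.deltaInv (X.presheaf.stalk x) = d ∧
      Brnch.numBranchesAt X x = m ∧ 1 ≤ m ∧ m ≤ d + 1 := by
    intro x hx
    have hdim := ringKrullDim_stalk_closed (by exact_mod_cast hd1) hequi hx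
    have hN := DeltaBaseLib.isNagata_stalk k x
    haveI := hN.1
    obtain ⟨-, -, hδ⟩ := Groth.Agent.S7652.result (X.presheaf.stalk x) hN hdim
    obtain ⟨d, hd⟩ := ENat.ne_top_iff_exists.1 hδ.ne
    have hle := numBranches_le_deltaInv_succ (X.presheaf.stalk x) hN hdim
    have hge := one_le_numBranches (X.presheaf.stalk x)
    rw [← hd] at hle
    obtain ⟨m, hm⟩ := ENat.ne_top_iff_exists.1
      (ne_top_of_le_ne_top (show ((d : ℕ∞) + 1) ≠ ⊤ from WithTop.add_ne_top.2 ⟨ENat.natCast_ne_top d, ENat.one_ne_top⟩) hle)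
    rw [← hm] at hle hge
    exact ⟨d, m, hd.symm, hm.symm, by exact_mod_cast hge, by exact_mod_cast hle⟩
  -- finitely many singular points
  have hfinT : {x : X | IsClosed ({x} : Set X) ∧ Curv2.deltaInv (X.presheaf.stalk x) ≠ 0}.Finite := by
    refine (FinPicLib.finite_of_closed (by exact_mod_cast hd1) U.isOpen.isClosed_compl fun y hy h =>
      hy (FinPicLib.mem_of_dense h U.isOpen hU)).subset fun x hn hxU => hn.2 ?_
    haveI := hπU
    obtain ⟨z, hz⟩ : ∃ z, (π ∣_ U) z = ⟨x, hxU⟩ :=
      (ConcreteCategory.bijective_of_isIso (π ∣_ U).base).2 ⟨x, hxU⟩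
    haveI hiso : IsIso (π.stalkMap z.1) :=
      (MorphismProperty.isomorphisms.iff _).1 (((MorphismProperty.isomorphisms CommRingCat).arrow_mk_iso_iff
        (morphismRestrictStalkMap π U z)).1 ((MorphismProperty.isomorphisms.iff _).2 inferInstance))
    have hzx : π z.1 = x := (morphismRestrict_base_coe π U z).symm.trans (congrArg Subtype.val hz)
    subst hzx
    let e := (asIso (π.stalkMap z.1)).commRingCatIsoToRingEquiv
    obtain ⟨h1, h2⟩ := hX' z.1
    haveI := h1
    haveI := h2
    haveI : IsDomain (X.presheaf.stalk (π z.1)) := e.toMulEquiv.isDomain _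
    haveI : IsIntegrallyClosed (X.presheaf.stalk (π z.1)) := IsIntegrallyClosed.of_equiv e.symm
    rw [Curv2.deltaInv, Module.length_eq_zero_iff, Submodule.Quotient.subsingleton_iff, LinearMap.range_eq_top]
    intro q
    obtain ⟨a, ha⟩ := IsIntegrallyClosed.isIntegral_iff.1 q.2
    exact ⟨a, Subtype.ext ha⟩
  let T := hfinT.toFinset
  have hS1 : ∑ᶠ x : X, (if IsClosed ({x} : Set X) then
      ((Module.finrank k (X.residueField x) : ℤ) * ((Curv2.deltaInv (X.presheaf.stalk x)).toNat : ℤ)) else 0) =
      ∑ x ∈ T, ((Curv2.deltaInv (X.presheaf.stalk x)).toNat : ℤ) := by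
    rw [finsum_eq_sum_of_support_subset _ (s := T) (fun x hx => by
      rw [Function.mem_support] at hx
      rw [Set.Finite.coe_toFinset]
      by_cases hc : IsClosed ({x} : Set X)
      · refine ⟨hc, fun h0 => hx ?_⟩
        rw [if_pos hc, h0]
        simp
      · exact absurd (if_neg hc) hx)]
    refine Finset.sum_congr rfl fun x hx => ?_
    have hc := (hfinT.mem_toFinset.1 hx).1
    rw [if_pos hc, h1 x hc, Nat.cast_one, one_mul]
  have hS2 : ∑ᶠ x : X, (if IsClosed ({x} : Set X) then (((Brnch.numBranchesAt X x).toNat : ℤ) - 1) else 0) =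
      ∑ x ∈ T, (((Brnch.numBranchesAt X x).toNat : ℤ) - 1) := by
    rw [finsum_eq_sum_of_support_subset _ (s := T) (fun x hx => by
      rw [Function.mem_support] at hx
      rw [Set.Finite.coe_toFinset]
      by_cases hc : IsClosed ({x} : Set X)
      · obtain ⟨d, m, hd, hm, hm1, hmd⟩ := hnum x hc
        refine ⟨hc, fun h0 => hx ?_⟩
        rw [hd] at h0
        have hd0 : d = 0 := by exact_mod_cast h0
        rw [if_pos hc, hm, ENat.toNat_coe]
        omega
      · exact absurd (if_neg hc) hx)]
    exact Finset.sum_congr rfl fun x hx => if_pos (hfinT.mem_toFinset.1 hx).1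
  rw [hS1] at he
  rw [hS2]
  have hv : ∀ n, 2 ≤ n → Subsingleton (Coh.HH X (Coh.structureModule X) n) := fun n hn =>
    CurvLib.subsingleton_HH_of_dim_le _ (d := 1) (by exact_mod_cast hd1) n (by omega)
  obtain ⟨hpn, hpe⟩ := PushLinLib.euler_push k π hπ (Coh.structureModule X')
  have hv' : ∀ n, 2 ≤ n → Subsingleton (Coh.HH X ((Coh.push π).obj (Coh.structureModule X')) n) := fun n hn =>
    CurvLib.subsingleton_HH_of_dim_le _ (d := 1) (by exact_mod_cast hd1) n (by omega)
  rw [hpe, CurvLib.euler_eq_sub hv, CurvLib.euler_eq_sub hv', ← hpn 0, ← hpn 1,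
    NormGenusLib.finrank_h0_eq_natCard k X, NormGenusLib.finrank_h0_eq_natCard k X',
    natCard_connectedComponents_normal X' hX', natCard_components_eq π hbij,
    show Nat.card (_root_.ConnectedComponents X) = 1 from Nat.card_unique, Nat.cast_one] at he
  have hg : (Curv2.genus k X : ℤ) = (Curv2.genus k X' : ℤ) + ∑ x ∈ T, ((Curv2.deltaInv (X.presheaf.stalk x)).toNat : ℤ) -
      (Nat.card (irreducibleComponents (X : Type u)) : ℤ) + 1 := by
    unfold Curv2.genus
    linarith
  have hle : ∀ x ∈ T, ((Brnch.numBranchesAt X x).toNat : ℤ) - 1 ≤ ((Curv2.deltaInv (X.presheaf.stalk x)).toNat : ℤ) := by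
    intro x hx
    obtain ⟨d, m, hd, hm, hm1, hmd⟩ := hnum x (hfinT.mem_toFinset.1 hx).1
    rw [hd, hm, ENat.toNat_coe, ENat.toNat_coe]
    omega
  constructor
  · intro h x hc
    obtain ⟨d, m, hd, hm, hm1, hmd⟩ := hnum x hc
    rw [hd, hm]
    suffices hdm : d + 1 = m by exact_mod_cast hdm
    by_cases hxT : x ∈ T
    · have hsum : ∑ x ∈ T, (((Brnch.numBranchesAt X x).toNat : ℤ) - 1) =
          ∑ x ∈ T, ((Curv2.deltaInv (X.presheaf.stalk x)).toNat : ℤ) := by linarith
      have h3 := (Finset.sum_eq_sum_iff_of_le hle).1 hsum x hxT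
      rw [hd, hm, ENat.toNat_coe, ENat.toNat_coe] at h3
      omega
    · have h0 : Curv2.deltaInv (X.presheaf.stalk x) = 0 := by
        by_contra hne
        exact hxT (hfinT.mem_toFinset.2 ⟨hc, hne⟩)
      rw [hd] at h0
      have hd0 : d = 0 := by exact_mod_cast h0
      omega
  · intro h
    rw [hg]
    congr 3
    refine Finset.sum_congr rfl fun x hx => ?_
    have hc := (hfinT.mem_toFinset.1 hx).1
    obtain ⟨d, m, hd, hm, hm1, hmd⟩ := hnum x hc
    have h' := h x hc
    rw [hd, hm] at h'
    have h'' : d + 1 = m := by exact_mod_cast h'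
    rw [hd, hm, ENat.toNat_coe, ENat.toNat_coe]
    omega

end MultiPtLib

end
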