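import Groth.Agent.MultiPtLib.Local
import Mathlib.RingTheory.PowerSeries.Inverse
import Mathlib.RingTheory.Ideal.Cotangent
import Mathlib.LinearAlgebra.Dimension.Finite

/-!
# Invariants of the multicross
-/

set_option autoImplicit false
set_option linter.style.haveILetI false

universe u

open IsLocalRing
open scoped nonZeroDivisors

noncomputable section

namespace MultiPtLib

/-- The tangent space of a wedge. -/
theorem finrank_cotangent_eq {k : Type u} [Field k] {A : Type u} [CommRing A] [IsLocalRing A] [Algebra k A] {n : ℕ}
    (φ : AdicCompletion (maximalIdeal A) A →+* (Fin n → PowerSeries k))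
    (hC : ∀ c : k, φ (algebraMap A (AdicCompletion (maximalIdeal A) A) (algebraMap k A c)) =
      fun _ => algebraMap k (PowerSeries k) c)
    (hres : Function.Surjective (algebraMap k (ResidueField A)))
    (hker : ∀ (a : A) (N : ℕ), (∀ i, ∀ l < N, PowerSeries.coeff l (φ (algebraMap A _ a) i) = 0) ↔
      a ∈ maximalIdeal A ^ N)
    (happ : ∀ (ξ : AdicCompletion (maximalIdeal A) A) (N : ℕ) (a : A),
      AdicCompletion.evalₐ (maximalIdeal A) N ξ = Ideal.Quotient.mk _ a →
        ∀ i, ∀ l < N, PowerSeries.coeff l (φ ξ i) = PowerSeries.coeff l (φ (algebraMap A _ a) i))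
    (hrange : Set.range φ = {f : Fin n → PowerSeries k | ∀ i j : Fin n,
      PowerSeries.constantCoeff (f i) = PowerSeries.constantCoeff (f j)}) :
    Module.finrank (ResidueField A) (CotangentSpace A) = n := by
  classical
  let P : A →+* (Fin n → PowerSeries k) := φ.comp (algebraMap A _)
  have h0 : ∀ a ∈ maximalIdeal A, ∀ i, PowerSeries.coeff 0 (P a i) = 0 := fun a ha i =>
    (hker a 1).2 (by rwa [pow_one]) i 0 Nat.zero_lt_one
  have hres0 : ∀ (r : A) (i : Fin n), residue A r = algebraMap k (ResidueField A) (PowerSeries.coeff 0 (P r i)) := by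
    intro r i
    obtain ⟨u, hu⟩ := hres (residue A r)
    have hmem : r - algebraMap k A u ∈ maximalIdeal A := (residue_eq_zero_iff _).1 (by
      rw [map_sub, ← hu, sub_eq_zero]; exact IsScalarTower.algebraMap_apply k A (ResidueField A) u)
    have h1 := h0 _ hmem i
    rw [map_sub, Pi.sub_apply, map_sub, sub_eq_zero] at h1
    rw [h1, ← hu, show P (algebraMap k A u) i = algebraMap k (PowerSeries k) u from congrFun (hC u) i,
      show algebraMap k (PowerSeries k) u = PowerSeries.C u from rfl, PowerSeries.coeff_zero_eq_constantCoeff_apply,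
      PowerSeries.constantCoeff_C]
  let L : maximalIdeal A →ₗ[A] (Fin n → ResidueField A) :=
    { toFun := fun a i => algebraMap k (ResidueField A) (PowerSeries.coeff 1 (P a.1 i))
      map_add' := fun a b => funext fun i => by simp
      map_smul' := fun r a => funext fun i => by
        have hmul : PowerSeries.coeff 1 (P (r * a.1) i) =
            PowerSeries.coeff 0 (P r i) * PowerSeries.coeff 1 (P a.1 i) := by
          rw [map_mul, Pi.mul_apply, PowerSeries.coeff_mul, Finset.Nat.sum_antidiagonal_succ, Finset.Nat.antidiagonal_zero,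
            Finset.sum_singleton, h0 a.1 a.2 i, mul_zero, add_zero]
        show algebraMap k (ResidueField A) (PowerSeries.coeff 1 (P (r • a.1) i)) = r • _
        rw [smul_eq_mul, hmul, map_mul, ← hres0 r i, Algebra.smul_def, ResidueField.algebraMap_eq] }
  have hL : LinearMap.ker L = LinearMap.ker (maximalIdeal A).toCotangent := by
    ext a
    rw [LinearMap.mem_ker, LinearMap.mem_ker, Ideal.toCotangent_eq_zero, ← hker a.1 2]
    refine ⟨fun h i l hl => ?_, fun h => funext fun i => ?_⟩
    · interval_cases l
      · exact h0 a.1 a.2 i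
      · exact (map_eq_zero (algebraMap k (ResidueField A))).1 (congrFun h i)
    · show algebraMap k (ResidueField A) _ = 0
      rw [show PowerSeries.coeff 1 (P a.1 i) = 0 from h i 1 Nat.one_lt_two, map_zero]
  have hLs : Function.Surjective L := by
    intro v
    choose u hu using fun i => hres (v i)
    let f : Fin n → PowerSeries k := fun i => PowerSeries.C (u i) * PowerSeries.X
    obtain ⟨ξ, hξ⟩ : f ∈ Set.range φ := by
      rw [hrange]
      intro i j
      simp [f]
    -- approximate by an element of `A`
    obtain ⟨a, ha⟩ := Ideal.Quotient.mk_surjective (AdicCompletion.evalₐ (maximalIdeal A) 2 ξ)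
    have hdiff : ∀ i, ∀ l < 2, PowerSeries.coeff l (φ (algebraMap A _ a) i) = PowerSeries.coeff l (f i) := by
      intro i l hl
      rw [← hξ]
      exact (happ ξ 2 a ha.symm i l hl).symm
    have ham : a ∈ maximalIdeal A := by
      rw [← pow_one (maximalIdeal A), ← hker a 1]
      intro i l hl
      rw [Nat.lt_one_iff] at hl
      subst hl
      rw [hdiff i 0 Nat.zero_lt_two]
      simp [f]
    refine ⟨⟨a, ham⟩, funext fun i => ?_⟩
    show algebraMap k (ResidueField A) (PowerSeries.coeff 1 (φ (algebraMap A _ a) i)) = v i
    rw [hdiff i 1 Nat.one_lt_two, ← hu i]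
    simp [f]
  let e : CotangentSpace A ≃ₗ[A] (Fin n → ResidueField A) :=
    ((LinearMap.quotKerEquivOfSurjective _ (maximalIdeal A).toCotangent_surjective).symm.trans
      (Submodule.quotEquivOfEq _ _ hL.symm)).trans (LinearMap.quotKerEquivOfSurjective L hLs)
  rw [(LinearEquiv.extendScalarsOfSurjective (S := ResidueField A) residue_surjective e).finrank_eq, Module.finrank_fin_fun]

end MultiPtLib

end
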