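import Groth.Agent.MultiPtLib.Expand
import Mathlib.RingTheory.AdicCompletion.Algebra
import Mathlib.RingTheory.Ideal.GoingUp
import Mathlib.RingTheory.Ideal.Quotient.Operations
import Mathlib.RingTheory.Localization.AtPrime.Basic

/-!
# The completion of a wedge of discrete valuation rings is a multicross
-/

set_option autoImplicit false
set_option linter.style.haveILetI false

universe u

open IsLocalRing

noncomputable section

namespace MultiPtLib

variable {C : Type u} [CommRing C]

theorem mem_pow_of_mul_mem {m : Ideal C} (hm : m.IsMaximal) {N : ℕ} {x s : C} (hs : s ∉ m) (h : s * x ∈ m ^ N) :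
    x ∈ m ^ N := by
  obtain ⟨r, i, hi, hsum⟩ := hm.exists_inv hs
  have h1 : (r * s + i) ^ N = 1 := by rw [hsum, one_pow]
  obtain ⟨q, hq⟩ : ∃ q, (r * s + i) ^ N = q * s + i ^ N := by
    have h2 : s ∣ (r * s + i) ^ N - i ^ N := (by simp : s ∣ r * s + i - i).trans (sub_dvd_pow_sub_pow _ _ N)
    obtain ⟨q, hq⟩ := h2
    exact ⟨q, by linear_combination hq⟩
  rw [h1] at hq
  rw [show x = q * (s * x) + i ^ N * x by linear_combination x * hq]
  exact add_mem (Ideal.mul_mem_left _ _ h) (Ideal.mul_mem_right _ _ (Ideal.pow_mem_pow hi N))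

theorem map_mem_pow_iff {m : Ideal C} [m.IsMaximal] {D : Type u} [CommRing D] [IsLocalRing D] [Algebra C D]
    [IsLocalization.AtPrime D m] (x : C) (N : ℕ) :
    algebraMap C D x ∈ maximalIdeal D ^ N ↔ x ∈ m ^ N := by
  rw [← IsLocalization.AtPrime.map_eq_maximalIdeal m D, ← Ideal.map_pow,
    IsLocalization.algebraMap_mem_map_algebraMap_iff m.primeCompl]
  exact ⟨fun ⟨s, hs, h⟩ => mem_pow_of_mul_mem ‹_› hs h, fun h => ⟨1, one_mem _, by rwa [one_mul]⟩⟩

variable (k : Type u) [Field k] [Algebra k C]

/-- The expansion at one branch. -/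
theorem exists_branch (m : Ideal C) [m.IsMaximal] [IsDomain (Localization.AtPrime m)]
    [IsDiscreteValuationRing (Localization.AtPrime m)] (hk : ∀ c : C, ∃ u : k, c - algebraMap k C u ∈ m) :
    ∃ θ : C →+* PowerSeries k, (∀ u, θ (algebraMap k C u) = PowerSeries.C u) ∧
      (∀ x N, (∀ n < N, PowerSeries.coeff n (θ x) = 0) ↔ x ∈ m ^ N) ∧
      ∀ (f : PowerSeries k) (N : ℕ), ∃ x, ∀ n < N, PowerSeries.coeff n (θ x) = PowerSeries.coeff n f := by
  let D := Localization.AtPrime m
  have hres : Function.Surjective (algebraMap k (ResidueField D)) := by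
    intro z
    obtain ⟨z, rfl⟩ := residue_surjective z
    obtain ⟨c, s, rfl⟩ := IsLocalization.exists_mk'_eq m.primeCompl z
    obtain ⟨a, ha⟩ := hk c
    obtain ⟨b, hb⟩ := hk s
    have hb0 : b ≠ 0 := fun h0 => s.2 (by simpa [h0] using hb)
    refine ⟨a / b, ?_⟩
    have key : ∀ (y : C) (e : k), y - algebraMap k C e ∈ m →
        residue D (algebraMap C D y) = algebraMap k (ResidueField D) e := by
      intro y e he
      rw [IsScalarTower.algebraMap_apply k D (ResidueField D), IsScalarTower.algebraMap_apply k C D,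
        ResidueField.algebraMap_eq, ← sub_eq_zero, ← map_sub, ← map_sub, residue_eq_zero_iff,
        IsLocalization.AtPrime.to_map_mem_maximal_iff D m]
      exact he
    have h1 : residue D (IsLocalization.mk' D c s) * residue D (algebraMap C D s) = residue D (algebraMap C D c) := by
      rw [← map_mul, IsLocalization.mk'_spec]
    rw [key _ _ hb, key _ _ ha] at h1
    have hb1 : algebraMap k (ResidueField D) b ≠ 0 := (map_ne_zero _).2 hb0
    rw [map_div₀, ← h1, mul_div_cancel_right₀ _ hb1]
  obtain ⟨g, hg⟩ := (IsPrincipalIdealRing.principal (maximalIdeal D)).principal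
  obtain ⟨⟨a, t⟩, hat⟩ := IsLocalization.surj m.primeCompl g
  have hπ : maximalIdeal D = Ideal.span {algebraMap C D a} := by
    rw [← hat, Ideal.span_singleton_mul_right_unit (IsLocalization.map_units D t)]
    exact hg
  refine ⟨(expandHom k hres hπ).comp (algebraMap C D), fun u => ?_, fun x N => ?_, fun f N => ?_⟩
  · rw [RingHom.comp_apply, ← IsScalarTower.algebraMap_apply, expandHom_algebraMap]
  · simp only [RingHom.comp_apply]
    rw [expand_eq_zero_iff, ← map_mem_pow_iff (D := D), hπ, Ideal.span_singleton_pow, Ideal.mem_span_singleton]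
  · refine ⟨Polynomial.aeval a (f.trunc N), fun n hn => ?_⟩
    rw [RingHom.comp_apply, ← Polynomial.aeval_algebraMap_apply, expandHom_aeval, PowerSeries.coeff_trunc, if_pos hn]

/-- **Completions of wedges of discrete valuation rings.** -/
theorem exists_multicross {A : Type u} [CommRing A] [IsLocalRing A] [Algebra k A] [Algebra A C] [IsScalarTower k A C]
    (hinj : Function.Injective (algebraMap A C))
    (hres : Function.Surjective (algebraMap k (ResidueField A)))
    {n : ℕ} (hn : 0 < n) (m : Fin n → Ideal C) [hmax : ∀ i, (m i).IsMaximal] (hdist : Function.Injective m)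
    (hover : ∀ i, (m i).comap (algebraMap A C) = maximalIdeal A)
    (hsurj : ∀ i, ∀ c : C, ∃ a : A, c - algebraMap A C a ∈ m i)
    (hdvr : ∀ i, ∃ _ : IsDomain (Localization.AtPrime (m i)), IsDiscreteValuationRing (Localization.AtPrime (m i)))
    (hwedge : ∀ c : C, (∃ a : A, ∀ i, c - algebraMap A C a ∈ m i) → c ∈ (algebraMap A C).range) :
    ∃ φ : AdicCompletion (maximalIdeal A) A →+* (Fin n → PowerSeries k),
      Function.Injective φ ∧
      (∀ c : k, φ (algebraMap A (AdicCompletion (maximalIdeal A) A) (algebraMap k A c)) =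
        fun _ => algebraMap k (PowerSeries k) c) ∧
      Set.range φ = {f : Fin n → PowerSeries k | ∀ i j : Fin n,
        PowerSeries.constantCoeff (f i) = PowerSeries.constantCoeff (f j)} ∧
      (∀ (a : A) (N : ℕ), (∀ i, ∀ l < N, PowerSeries.coeff l (φ (algebraMap A _ a) i) = 0) ↔
        a ∈ maximalIdeal A ^ N) ∧
      ∀ (ξ : AdicCompletion (maximalIdeal A) A) (N : ℕ) (a : A),
        AdicCompletion.evalₐ (maximalIdeal A) N ξ = Ideal.Quotient.mk _ a →
          ∀ i, ∀ l < N, PowerSeries.coeff l (φ ξ i) = PowerSeries.coeff l (φ (algebraMap A _ a) i) := by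
  classical
  let M := maximalIdeal A
  have hkA : ∀ a : A, ∃ u : k, a - algebraMap k A u ∈ M := fun a => by
    obtain ⟨u, hu⟩ := hres (residue A a)
    refine ⟨u, (residue_eq_zero_iff _).1 ?_⟩
    rw [map_sub, ← hu, sub_eq_zero]
    exact IsScalarTower.algebraMap_apply k A (ResidueField A) u
  have hkC : ∀ i, ∀ c : C, ∃ u : k, c - algebraMap k C u ∈ m i := fun i c => by
    obtain ⟨a, ha⟩ := hsurj i c
    obtain ⟨u, hu⟩ := hkA a
    have hu' : algebraMap A C (a - algebraMap k A u) ∈ m i := Ideal.mem_comap.1 ((hover i).symm ▸ hu)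
    refine ⟨u, ?_⟩
    have h := add_mem ha hu'
    rw [map_sub, ← IsScalarTower.algebraMap_apply] at h
    convert h using 1
    ring
  have hbr : ∀ i, ∃ θ : C →+* PowerSeries k, (∀ u, θ (algebraMap k C u) = PowerSeries.C u) ∧
      (∀ x N, (∀ n < N, PowerSeries.coeff n (θ x) = 0) ↔ x ∈ m i ^ N) ∧
      ∀ (f : PowerSeries k) (N : ℕ), ∃ x, ∀ n < N, PowerSeries.coeff n (θ x) = PowerSeries.coeff n f := fun i => by
    obtain ⟨hD, hV⟩ := hdvr i
    haveI := hD
    haveI := hV
    exact exists_branch k (m i) (hkC i)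
  choose θ hθC hθker hθsurj using hbr
  -- powers of the maximal ideal
  have hcop : ∀ i j, i ≠ j → IsCoprime (m i) (m j) := fun i j hij =>
    Ideal.isCoprime_of_isMaximal fun h => hij (hdist h)
  let J : Ideal C := ⨅ i, m i
  have hJ : ∀ N, J ^ N = ⨅ i, m i ^ N := fun N => by
    have h1 : J = ∏ i, m i :=
      ((iInf_congr fun i => by simp).trans
        (Ideal.prod_eq_iInf_of_pairwise_isCoprime (s := Finset.univ) fun i _ j _ hij => hcop i j hij).symm)
    rw [h1, ← Finset.prod_pow, Ideal.prod_eq_iInf_of_pairwise_isCoprime fun i _ j _ hij => (hcop i j hij).pow]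
    exact iInf_congr fun i => by simp
  have hMJ : M.map (algebraMap A C) ≤ J :=
    le_iInf fun i => Ideal.map_le_iff_le_comap.2 (hover i).ge
  have hJA : ∀ c ∈ J, ∃ a ∈ M, algebraMap A C a = c := fun c hc => by
    obtain ⟨a, ha⟩ := hwedge c ⟨0, fun i => by simpa using (Ideal.mem_iInf.1 hc) i⟩
    refine ⟨a, ?_, ha⟩
    rw [show M = (m ⟨0, hn⟩).comap (algebraMap A C) from (hover _).symm, Ideal.mem_comap, ha]
    exact (Ideal.mem_iInf.1 hc) _
  have hJN : ∀ (N : ℕ), ∀ c ∈ J ^ (N + 1), ∃ a ∈ M ^ (N + 1), algebraMap A C a = c := by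
    intro N
    induction N with
    | zero => simpa using hJA
    | succ N ih =>
      intro c hc
      rw [pow_succ] at hc
      induction hc using Submodule.mul_induction_on' with
      | mem_mul_mem x hx y hy =>
        obtain ⟨a, ha, rfl⟩ := ih x hx
        obtain ⟨b, hb, rfl⟩ := hJA y hy
        exact ⟨a * b, by rw [pow_succ]; exact Ideal.mul_mem_mul ha hb, map_mul _ _ _⟩
      | add x _ y _ hx hy =>
        obtain ⟨a, ha, rfl⟩ := hx
        obtain ⟨b, hb, rfl⟩ := hy
        exact ⟨a + b, add_mem ha hb, map_add _ _ _⟩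
  let Φ : A →+* (Fin n → PowerSeries k) := Pi.ringHom fun i => (θ i).comp (algebraMap A C)
  have hker : ∀ a N, (∀ i, ∀ l < N, PowerSeries.coeff l (Φ a i) = 0) ↔ a ∈ M ^ N := fun a N => by
    rcases N with - | N
    · simp
    have h1 : (∀ i, ∀ l < N + 1, PowerSeries.coeff l (Φ a i) = 0) ↔ algebraMap A C a ∈ J ^ (N + 1) := by
      rw [hJ, Ideal.mem_iInf]
      exact forall_congr' fun i => hθker i _ _
    rw [h1]
    refine ⟨fun h => ?_, fun h => Ideal.pow_right_mono hMJ _ (Ideal.map_pow (algebraMap A C) M (N + 1) ▸ Ideal.mem_map_of_mem _ h)⟩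
    obtain ⟨b, hb, hba⟩ := hJN N _ h
    rwa [← hinj hba]
  have hker' : ∀ a b N, a - b ∈ M ^ N → ∀ i, ∀ l < N, PowerSeries.coeff l (Φ a i) = PowerSeries.coeff l (Φ b i) := by
    intro a b N h i l hl
    have h1 := (hker _ _).2 h i l hl
    rwa [map_sub, Pi.sub_apply, map_sub, sub_eq_zero] at h1
  have hev : ∀ (ξ : AdicCompletion M A) (N : ℕ), ∃ a, AdicCompletion.evalₐ M N ξ = Ideal.Quotient.mk _ a :=
    fun ξ N => (Ideal.Quotient.mk_surjective (AdicCompletion.evalₐ M N ξ)).imp fun a h => h.symm
  have hcompat : ∀ (ξ : AdicCompletion M A) {p q : ℕ} (_ : p ≤ q) (a b : A),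
      AdicCompletion.evalₐ M p ξ = Ideal.Quotient.mk _ a → AdicCompletion.evalₐ M q ξ = Ideal.Quotient.mk _ b →
      a - b ∈ M ^ p := by
    intro ξ p q hpq a b ha hb
    obtain ⟨x, rfl⟩ := AdicCompletion.mk_surjective M A ξ
    rw [AdicCompletion.evalₐ_mk, Ideal.Quotient.eq] at ha hb
    have hx : x.val p - x.val q ∈ M ^ p := by
      have h := x.2 hpq
      rw [SModEq.sub_mem, smul_eq_mul, Ideal.mul_top] at h
      exact h
    have h := add_mem (sub_mem hx ha) (Ideal.pow_le_pow_right hpq hb)
    convert h using 1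
    ring
  choose rep hrep using hev
  let F : AdicCompletion M A → Fin n → PowerSeries k := fun ξ i =>
    PowerSeries.mk fun l => PowerSeries.coeff l (Φ (rep ξ (l + 1)) i)
  have key : ∀ ξ N a, AdicCompletion.evalₐ M N ξ = Ideal.Quotient.mk _ a →
      ∀ i, ∀ l < N, PowerSeries.coeff l (F ξ i) = PowerSeries.coeff l (Φ a i) := by
    intro ξ N a ha i l hl
    rw [PowerSeries.coeff_mk]
    exact hker' _ _ (l + 1) (hcompat ξ hl _ _ (hrep ξ (l + 1)) ha) i l (Nat.lt_succ_self l)
  let φ : AdicCompletion M A →+* (Fin n → PowerSeries k) :=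
    { toFun := F
      map_one' := funext fun i => PowerSeries.ext fun l => by
        rw [key 1 (l + 1) 1 (by rw [map_one, map_one]) i l (Nat.lt_succ_self l), map_one]
      map_zero' := funext fun i => PowerSeries.ext fun l => by
        rw [key 0 (l + 1) 0 (by rw [map_zero, map_zero]) i l (Nat.lt_succ_self l), map_zero]
      map_add' := fun x y => funext fun i => PowerSeries.ext fun l => by
        have hx := hrep x (l + 1)
        have hy := hrep y (l + 1)
        rw [key (x + y) (l + 1) (rep x (l + 1) + rep y (l + 1)) (by rw [map_add, map_add, hx, hy]) i l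
          (Nat.lt_succ_self l), map_add, Pi.add_apply, Pi.add_apply, map_add, map_add,
          key x (l + 1) _ hx i l (Nat.lt_succ_self l), key y (l + 1) _ hy i l (Nat.lt_succ_self l)]
      map_mul' := fun x y => funext fun i => PowerSeries.ext fun l => by
        have hx := hrep x (l + 1)
        have hy := hrep y (l + 1)
        rw [key (x * y) (l + 1) (rep x (l + 1) * rep y (l + 1)) (by rw [map_mul, map_mul, hx, hy]) i l
          (Nat.lt_succ_self l), map_mul, Pi.mul_apply, Pi.mul_apply, PowerSeries.coeff_mul, PowerSeries.coeff_mul]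
        refine Finset.sum_congr rfl fun ij hij => ?_
        rw [Finset.mem_antidiagonal] at hij
        rw [key x (l + 1) _ hx i _ (Nat.lt_succ_of_le (by omega)), key y (l + 1) _ hy i _ (Nat.lt_succ_of_le (by omega))] }
  refine ⟨φ, ?_, fun c => funext fun i => PowerSeries.ext fun l => ?_, ?_, fun a N => ?_, fun ξ N a ha i l hl => ?_⟩
  · refine (injective_iff_map_eq_zero φ).2 fun ξ hξ => AdicCompletion.ext_evalₐ fun N => ?_
    rw [map_zero, hrep ξ N, Ideal.Quotient.eq_zero_iff_mem]
    refine (hker _ _).1 fun i l hl => ?_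
    rw [← key ξ N _ (hrep ξ N) i l hl, show F ξ = 0 from hξ, Pi.zero_apply, map_zero]
  · show PowerSeries.coeff l (F _ i) = _
    rw [key _ (l + 1) (algebraMap k A c) (AlgHom.commutes _ _) i l (Nat.lt_succ_self l)]
    show PowerSeries.coeff l (θ i (algebraMap A C (algebraMap k A c))) = _
    rw [← IsScalarTower.algebraMap_apply, hθC]
    rfl
  · refine Set.Subset.antisymm ?_ fun f hf => ?_
    · rintro _ ⟨ξ, rfl⟩ i j
      obtain ⟨u, hu⟩ := hkA (rep ξ 1)
      have h1 : ∀ i, PowerSeries.constantCoeff (φ ξ i) = u := fun i => by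
        rw [← PowerSeries.coeff_zero_eq_constantCoeff_apply]
        show PowerSeries.coeff 0 (F ξ i) = u
        rw [key ξ 1 _ (hrep ξ 1) i 0 Nat.zero_lt_one, hker' _ (algebraMap k A u) 1 (by rwa [pow_one]) i 0 Nat.zero_lt_one]
        show PowerSeries.coeff 0 (θ i (algebraMap A C (algebraMap k A u))) = u
        rw [← IsScalarTower.algebraMap_apply, hθC, PowerSeries.coeff_zero_eq_constantCoeff_apply, PowerSeries.constantCoeff_C]
      rw [h1, h1]
    · have hlift : ∀ N, ∃ a : A, ∀ i, ∀ l < N, PowerSeries.coeff l (Φ a i) = PowerSeries.coeff l (f i) := by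
        intro N
        rcases N with - | N
        · exact ⟨0, fun i l hl => absurd hl (Nat.not_lt_zero l)⟩
        choose x hx using fun i => hθsurj i (f i) (N + 1)
        obtain ⟨y, hy⟩ := Ideal.exists_forall_sub_mem_ideal (I := fun i => m i ^ (N + 1))
          (fun i j hij => (hcop i j hij).pow) x
        have hval : ∀ i, ∀ l < N + 1, PowerSeries.coeff l (θ i y) = PowerSeries.coeff l (f i) := fun i l hl => by
          have h1 := (hθker i _ _).2 (hy i) l hl
          rw [map_sub, map_sub, sub_eq_zero] at h1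
          rw [h1, hx i l hl]
        let c := PowerSeries.constantCoeff (f ⟨0, hn⟩)
        obtain ⟨a, ha⟩ := hwedge y ⟨algebraMap k A c, fun i => by
          rw [← IsScalarTower.algebraMap_apply, ← pow_one (m i), ← hθker i]
          intro l hl
          rw [Nat.lt_one_iff] at hl
          subst hl
          rw [map_sub, map_sub, hθC, hval i 0 (Nat.succ_pos N), PowerSeries.coeff_zero_eq_constantCoeff_apply,
            PowerSeries.coeff_zero_eq_constantCoeff_apply, PowerSeries.constantCoeff_C, hf i ⟨0, hn⟩, sub_self]⟩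
        exact ⟨a, fun i l hl => by
          show PowerSeries.coeff l (θ i (algebraMap A C a)) = _
          rw [ha, hval i l hl]⟩
      choose a ha using hlift
      have hcauchy : ∀ {p q : ℕ}, p ≤ q → a p ≡ a q [SMOD (M ^ p • ⊤ : Submodule A A)] := fun {p q} hpq => by
        rw [SModEq.sub_mem, smul_eq_mul, Ideal.mul_top]
        refine (hker _ _).1 fun i l hl => ?_
        rw [map_sub, Pi.sub_apply, map_sub, ha p i l hl, ha q i l (hl.trans_le hpq), sub_self]
      refine ⟨AdicCompletion.mk M A ⟨a, hcauchy⟩, funext fun i => PowerSeries.ext fun l => ?_⟩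
      show PowerSeries.coeff l (F _ i) = _
      rw [key _ (l + 1) (a (l + 1)) (AdicCompletion.evalₐ_mk M _ _) i l (Nat.lt_succ_self l)]
      exact ha (l + 1) i l (Nat.lt_succ_self l)
  · rw [← hker a N]
    refine forall_congr' fun i => forall_congr' fun l => forall_congr' fun hl => ?_
    show PowerSeries.coeff l (F _ i) = 0 ↔ _
    rw [key _ (l + 1) a (AlgHom.commutes _ _) i l (Nat.lt_succ_self l)]
  · show PowerSeries.coeff l (F ξ i) = PowerSeries.coeff l (F _ i)
    rw [key ξ N a ha i l hl, key _ N a (AlgHom.commutes _ _) i l hl]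

end MultiPtLib

end
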