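import Groth.Agent.MultiPtLib.Branch
import Groth.Agent.MultiPtLib.Wedge

/-!
# One-dimensional local rings with minimal `δ`
-/

set_option autoImplicit false
set_option linter.style.haveILetI false

universe u

open IsLocalRing

noncomputable section

namespace MultiPtLib

theorem isDVR_localization (A : Type u) [CommRing A] [IsLocalRing A] [_root_.IsReduced A] (hN : CAlg.IsNagata A)
    (hdim : ringKrullDim A = 1) (m' : MaximalSpectrum ↥(integralClosure A (FractionRing A))) :
    ∃ _ : IsDomain (Localization.AtPrime m'.asIdeal), IsDiscreteValuationRing (Localization.AtPrime m'.asIdeal) := by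
  haveI := hN.1
  obtain ⟨hfin, hnorm, -⟩ := Groth.Agent.S7652.result A hN hdim
  haveI := hfin
  haveI := m'.isMaximal
  obtain ⟨hD, hI⟩ := hnorm ⟨m'.asIdeal, inferInstance⟩
  haveI := hD
  haveI := hI
  haveI : IsNoetherianRing ↥(integralClosure A (FractionRing A)) := IsNoetherianRing.of_finite A _
  haveI : IsNoetherianRing (Localization.AtPrime m'.asIdeal) :=
    IsLocalization.isNoetherianRing m'.asIdeal.primeCompl _ inferInstance
  refine ⟨hD, ?_⟩
  have hmA := eq_maximalIdeal (Ideal.isMaximal_comap_of_isIntegral_of_isMaximal (R := A) m'.asIdeal)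
  have hnm : maximalIdeal A ∉ minimalPrimes A := fun hmin => by
    have h0 : maximalIdeal A = ⊥ := by
      refine le_bot_iff.1 (le_trans ?_ (nilradical_eq_zero A).le)
      intro x hx
      rw [nilradical_eq_sInf, Submodule.mem_sInf]
      intro q (hq : Ideal.IsPrime q)
      exact hmin.2 ⟨hq, bot_le⟩ (le_maximalIdeal hq.ne_top) hx
    have h1 := ringKrullDim_eq_zero_of_isField (isField_iff_maximalIdeal_eq.2 h0)
    rw [hdim] at h1
    exact one_ne_zero h1
  have hnf : ¬ IsField (Localization.AtPrime m'.asIdeal) := fun hf => by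
    obtain ⟨x, hx, hxn⟩ : ∃ x ∈ maximalIdeal A, x ∈ nonZeroDivisors A := by
      by_contra hc
      push Not at hc
      have hsub' : (maximalIdeal A : Set A) ⊆ ⋃ q ∈ (minimalPrimes.finite_of_isNoetherianRing A).toFinset,
          (q : Set A) := by
        intro x hx
        have hnd := hc x hx
        rw [mem_nonZeroDivisors_iff_right] at hnd
        push Not at hnd
        obtain ⟨y, hxy, hy⟩ := hnd
        have hy' : y ∉ sInf (minimalPrimes A) := by
          rw [show sInf (minimalPrimes A) = nilradical A by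
            rw [nilradical, ← Ideal.sInf_minimalPrimes]; rfl, nilradical_eq_zero]
          simpa using hy
        rw [Submodule.mem_sInf] at hy'
        push Not at hy'
        obtain ⟨q, hq, hyq⟩ := hy'
        simp only [Set.mem_iUnion, Set.Finite.mem_toFinset]
        exact ⟨q, hq, (hq.1.1.mem_or_mem (show y * x ∈ q by rw [hxy]; exact q.zero_mem)).resolve_left hyq⟩
      obtain ⟨q, hq, hpq⟩ := (Ideal.subset_union_prime (s := (minimalPrimes.finite_of_isNoetherianRing A).toFinset)
        (f := id) ⊥ ⊥ fun q hq _ _ => ((Set.Finite.mem_toFinset _).1 hq).1.1).1 hsub'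
      rw [Set.Finite.mem_toFinset] at hq
      exact hnm ((le_antisymm hpq (le_maximalIdeal hq.1.1.ne_top) : maximalIdeal A = q) ▸ hq)
    have h1 : algebraMap ↥(integralClosure A (FractionRing A)) (Localization.AtPrime m'.asIdeal)
        (algebraMap A _ x) = 0 := by
      by_contra h1
      have hu : IsUnit (algebraMap ↥(integralClosure A (FractionRing A)) (Localization.AtPrime m'.asIdeal)
          (algebraMap A _ x)) := by
        obtain ⟨b, hb⟩ := hf.mul_inv_cancel h1
        exact IsUnit.of_mul_eq_one b hb
      rw [IsLocalization.AtPrime.isUnit_to_map_iff _ m'.asIdeal] at hu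
      exact hu (Ideal.mem_comap.1 (hmA.symm ▸ hx))
    obtain ⟨⟨c, hc⟩, h2⟩ := (IsLocalization.map_eq_zero_iff m'.asIdeal.primeCompl _ _).1 h1
    have hxu : IsUnit (algebraMap A (FractionRing A) x) := IsLocalization.map_units _ ⟨x, hxn⟩
    have hc0 : (c : FractionRing A) = 0 := hxu.mul_left_eq_zero.1 (congrArg Subtype.val h2)
    exact hc (by rw [Subtype.ext (show (c : FractionRing A) = (0 : ↥(integralClosure A (FractionRing A))) from hc0)]
                 exact m'.asIdeal.zero_mem)
  have htfae : IsDiscreteValuationRing (Localization.AtPrime m'.asIdeal) ↔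
      (IsIntegrallyClosed (Localization.AtPrime m'.asIdeal) ∧
        ∃! P : Ideal (Localization.AtPrime m'.asIdeal), P ≠ ⊥ ∧ P.IsPrime) :=
    (IsDiscreteValuationRing.TFAE _ hnf).out 0 3
  refine htfae.2 ⟨inferInstance, IsLocalRing.maximalIdeal _,
    ⟨fun h => hnf (isField_iff_maximalIdeal_eq.2 h), inferInstance⟩, fun P hP => ?_⟩
  haveI := hP.2
  by_contra hne
  haveI : (⊥ : Ideal (Localization.AtPrime m'.asIdeal)).IsPrime := Ideal.isPrime_bot
  have hlt : ∀ {I J : Ideal (Localization.AtPrime m'.asIdeal)}, I.IsPrime → I < J →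
      I.under ↥(integralClosure A (FractionRing A)) < J.under _ := fun {I J} _ hIJ =>
    lt_of_le_of_ne (Ideal.comap_mono hIJ.le) fun h => hIJ.ne (by
      rw [← IsLocalization.map_under m'.asIdeal.primeCompl _ I, ← IsLocalization.map_under m'.asIdeal.primeCompl _ J, h])
  have l1 := hlt inferInstance (bot_lt_iff_ne_bot.2 hP.1)
  have l2 := hlt hP.2 (lt_of_le_of_ne (le_maximalIdeal hP.2.ne_top) hne)
  have k1 := Ideal.IsIntegral.comap_lt_comap (R := A) l1
  have k2 := Ideal.IsIntegral.comap_lt_comap (R := A) l2
  let p : Fin 3 → PrimeSpectrum A := ![⟨_, Ideal.IsPrime.comap (algebraMap A _) (K := (⊥ : Ideal (Localization.AtPrime m'.asIdeal)).under ↥(integralClosure A (FractionRing A)))⟩,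
    ⟨_, Ideal.IsPrime.comap (algebraMap A _) (K := P.under ↥(integralClosure A (FractionRing A)))⟩,
    ⟨_, Ideal.IsPrime.comap (algebraMap A _) (K := (maximalIdeal (Localization.AtPrime m'.asIdeal)).under ↥(integralClosure A (FractionRing A)))⟩]
  have hmono : StrictMono p := by
    refine Fin.strictMono_iff_lt_succ.2 fun i => ?_
    fin_cases i
    · exact k1
    · exact k2
  have := Order.LTSeries.length_le_krullDim (LTSeries.mk 2 p hmono)
  rw [← ringKrullDim, hdim] at this
  exact absurd (by exact_mod_cast this : (2 : ℕ) ≤ 1) (by decide)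


/-- A reduced one-dimensional local ring with `δ` one less than the branches, all of whose residues come from `k`, completes to a multicross. -/
theorem exists_multicross_of_delta (k : Type u) [Field k] (A : Type u) [CommRing A] [IsLocalRing A] [Algebra k A]
    [_root_.IsReduced A] (hdim : ringKrullDim A = 1) (hN : CAlg.IsNagata A)
    (hres : Function.Surjective (algebraMap k (ResidueField A)))
    (n : ℕ) (hn : Brnch.numBranches A = n) (hδ : Curv2.deltaInv A + 1 = n) :
    ∃ φ : AdicCompletion (maximalIdeal A) A →+* (Fin n → PowerSeries k),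
      Function.Injective φ ∧
      (∀ c : k, φ (algebraMap A (AdicCompletion (maximalIdeal A) A) (algebraMap k A c)) =
        fun _ => algebraMap k (PowerSeries k) c) ∧
      Set.range φ = {f : Fin n → PowerSeries k | ∀ i j : Fin n,
        PowerSeries.constantCoeff (f i) = PowerSeries.constantCoeff (f j)} ∧
      (∀ (a : A) (N : ℕ), (∀ i, ∀ l < N, PowerSeries.coeff l (φ (algebraMap A _ a) i) = 0) ↔
        a ∈ maximalIdeal A ^ N) ∧
      ∀ (ξ : AdicCompletion (maximalIdeal A) A) (N : ℕ) (a : A),
        AdicCompletion.evalₐ (maximalIdeal A) N ξ = Ideal.Quotient.mk _ a →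
          ∀ i, ∀ l < N, PowerSeries.coeff l (φ ξ i) = PowerSeries.coeff l (φ (algebraMap A _ a) i) := by
  classical
  haveI := hN.1
  obtain ⟨hfin, -, hdelta⟩ := Groth.Agent.S7652.result A hN hdim
  haveI := hfin
  obtain ⟨δ, hd⟩ := ENat.ne_top_iff_exists.1 hdelta.ne
  set C := ↥(integralClosure A (FractionRing A))
  have hcard : ENat.card (MaximalSpectrum C) = n := (numBranches_eq_card A).symm.trans hn
  have hc : (δ : ℕ∞) + 1 ≤ ENat.card (MaximalSpectrum C) := by rw [hcard, hd, hδ]
  obtain ⟨hsurj, hmem⟩ := Groth.Agent.S12463.core (A := A) (C := C) δ hd.symm hc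
  haveI : Finite (MaximalSpectrum C) := by
    by_contra hinf
    rw [not_finite_iff_infinite] at hinf
    rw [ENat.card_eq_top_of_infinite] at hcard
    exact ENat.top_ne_natCast n hcard
  let e : Fin n ≃ MaximalSpectrum C := (Finite.equivFinOfCardEq (by
    letI := Fintype.ofFinite (MaximalSpectrum C)
    have h1 := hcard
    rw [ENat.card_eq_coe_fintype_card] at h1
    rw [Nat.card_eq_fintype_card]
    exact_mod_cast h1)).symm
  have hn0 : 0 < n := by
    obtain ⟨q, hq⟩ := Ideal.exists_maximal C
    exact (e.symm ⟨q, hq⟩).pos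
  haveI : ∀ i, (e i).asIdeal.IsMaximal := fun i => (e i).isMaximal
  refine exists_multicross k (A := A) (C := C) ?_ hres hn0 (fun i => (e i).asIdeal)
    (fun i j h => e.injective (MaximalSpectrum.ext h)) (fun i => ?_) (fun i c => ?_)
    (fun i => isDVR_localization A hN hdim (e i)) fun c ⟨a, ha⟩ => hmem c ⟨a, fun q => ?_⟩
  · intro a b h
    exact IsFractionRing.injective A (FractionRing A) (congrArg Subtype.val h)
  · exact eq_maximalIdeal (Ideal.isMaximal_comap_of_isIntegral_of_isMaximal _)
  · obtain ⟨a, ha⟩ := hsurj (e i) (Ideal.Quotient.mk _ c)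
    exact ⟨a, Ideal.Quotient.eq.1 ha.symm⟩
  · obtain ⟨i, rfl⟩ := e.surjective q
    exact ha i

end MultiPtLib

end
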