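import Groth.Agent.MultiPtLib.Branch
import Mathlib.RingTheory.PowerSeries.Inverse
import Mathlib.RingTheory.IntegralClosure.IntegrallyClosed
import Mathlib.LinearAlgebra.Dimension.Finite
import Mathlib.RingTheory.Artinian.Module

/-!
# `δ` and the branches of the multicross
-/

set_option autoImplicit false
set_option linter.style.haveILetI false

universe u

open IsLocalRing
open scoped nonZeroDivisors

noncomputable section

namespace MultiPtLib

variable {k : Type u} [Field k] {n : ℕ}

theorem multicross_invariants (hn : 0 < n) (B : Type u) [CommRing B] [IsLocalRing B] [IsNoetherianRing B]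
    (φ : B →+* (Fin n → PowerSeries k)) (hinj : Function.Injective φ)
    (hrange : Set.range φ = {f : Fin n → PowerSeries k | ∀ i j : Fin n,
      PowerSeries.constantCoeff (f i) = PowerSeries.constantCoeff (f j)}) :
    Brnch.numBranches B = n ∧ Curv2.deltaInv B + 1 = n := by
  classical
  haveI : _root_.IsReduced B := isReduced_of_injective φ hinj
  letI : Algebra B (Fin n → PowerSeries k) := φ.toAlgebra
  let i₀ : Fin n := ⟨0, hn⟩
  have hmem : ∀ f : Fin n → PowerSeries k, (∀ i, PowerSeries.constantCoeff (f i) = 0) → f ∈ Set.range φ := fun f hf => by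
    rw [hrange]; intro i j; rw [hf, hf]
  have hconst : ∀ c : k, (fun _ : Fin n => PowerSeries.C c) ∈ Set.range φ := fun c => by
    rw [hrange]; intro i j; rfl
  -- the uniformiser in all branches
  obtain ⟨s, hs⟩ := hmem (fun _ => PowerSeries.X) fun _ => by simp
  have hs0 : s ∈ B⁰ := mem_nonZeroDivisors_iff_right.2 fun b hb => hinj (funext fun i => by
    have h1 := congrFun (congrArg φ hb) i
    rw [map_mul, map_zero, Pi.mul_apply, hs, Pi.zero_apply] at h1
    rw [map_zero, Pi.zero_apply]
    exact (mul_eq_zero.1 h1).resolve_right PowerSeries.X_ne_zero)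
  have hsf : ∀ f : Fin n → PowerSeries k, φ s * f ∈ Set.range φ := fun f => hmem _ fun i => by
    rw [Pi.mul_apply, hs]; simp
  choose num hnum using hsf
  let Q := FractionRing B
  let su : Qˣ := (IsLocalization.map_units Q (⟨s, hs0⟩ : B⁰)).unit
  have hsu : (su : Q) = algebraMap B Q s := rfl
  let g : (Fin n → PowerSeries k) → Q := fun f => algebraMap B Q (num f) * ↑su⁻¹
  have hg : ∀ f, g f * algebraMap B Q s = algebraMap B Q (num f) := fun f => by
    simp only [g]
    rw [mul_assoc, ← hsu, Units.inv_mul, mul_one]
  have hgφ : ∀ (f : Fin n → PowerSeries k) (b : B), φ b = f → g f = algebraMap B Q b := fun f b hb => by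
    refine (IsLocalization.map_units Q (⟨s, hs0⟩ : B⁰)).mul_right_cancel ?_
    show g f * algebraMap B Q s = _
    rw [hg, ← map_mul]
    congr 1
    refine hinj ?_
    show φ (num f) = φ (b * s)
    rw [hnum, map_mul, hb, mul_comm]
  let G : (Fin n → PowerSeries k) →+* Q :=
    { toFun := g
      map_one' := (hgφ 1 1 (map_one φ)).trans (map_one _)
      map_zero' := (hgφ 0 0 (map_zero φ)).trans (map_zero _)
      map_add' := fun f f' => by
        refine (IsLocalization.map_units Q (⟨s, hs0⟩ : B⁰)).mul_right_cancel ?_
        show g (f + f') * algebraMap B Q s = (g f + g f') * algebraMap B Q s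
        rw [add_mul, hg, hg, hg, ← map_add]
        congr 1
        exact hinj (by rw [hnum, map_add, hnum, hnum, mul_add])
      map_mul' := fun f f' => by
        refine (IsLocalization.map_units Q (⟨s * s, mul_mem hs0 hs0⟩ : B⁰)).mul_right_cancel ?_
        show g (f * f') * algebraMap B Q (s * s) = g f * g f' * algebraMap B Q (s * s)
        rw [map_mul, ← mul_assoc, hg, ← map_mul, show g f * g f' * (algebraMap B Q s * algebraMap B Q s) =
          g f * algebraMap B Q s * (g f' * algebraMap B Q s) by ring, hg, hg, ← map_mul]
        congr 1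
        exact hinj (by rw [map_mul, map_mul, hnum, hnum, hnum]; ring) }
  letI : Algebra (Fin n → PowerSeries k) Q := G.toAlgebra
  haveI : IsScalarTower B (Fin n → PowerSeries k) Q :=
    IsScalarTower.of_algebraMap_eq fun b => (hgφ _ b rfl).symm
  have hG : Function.Injective G := fun f f' h => by
    have h1 : algebraMap B Q (num f) = algebraMap B Q (num f') := by
      rw [← hg, ← hg, show g f = g f' from h]
    have h2 := congrArg φ (IsFractionRing.injective B Q h1)
    rw [hnum, hnum] at h2
    funext i
    have h3 := congrFun h2 i
    simp only [Pi.mul_apply, hs] at h3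
    exact mul_left_cancel₀ PowerSeries.X_ne_zero h3
  have hint : ∀ f : Fin n → PowerSeries k, IsIntegral B f := by
    intro f
    have he : ∀ i, IsIntegral B (Pi.single i (1 : PowerSeries k) : Fin n → PowerSeries k) := fun i =>
      ⟨Polynomial.X ^ 2 - Polynomial.X, Polynomial.monic_X_pow_sub (by rw [Polynomial.degree_X]; exact_mod_cast Nat.one_lt_two), by
        rw [← Polynomial.aeval_def, map_sub, map_pow, Polynomial.aeval_X, sq, ← Pi.single_mul, one_mul, sub_self]⟩
    obtain ⟨b, hb⟩ := hmem (fun i => f i - PowerSeries.C (PowerSeries.constantCoeff (f i))) fun i => by simp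
    choose c hc using fun i => hconst (PowerSeries.constantCoeff (f i))
    have hf : f = algebraMap B _ b + ∑ i, algebraMap B _ (c i) * Pi.single i (1 : PowerSeries k) := by
      funext i
      rw [RingHom.algebraMap_toAlgebra, Pi.add_apply, hb, Finset.sum_apply, Finset.sum_eq_single i]
      · rw [Pi.mul_apply, hc, Pi.single_eq_same, mul_one, sub_add_cancel]
      · intro j _ hj
        rw [Pi.mul_apply, Pi.single_eq_of_ne hj.symm, mul_zero]
      · exact fun h => absurd (Finset.mem_univ i) h
    rw [hf]
    exact isIntegral_algebraMap.add (IsIntegral.sum _ fun i _ => isIntegral_algebraMap.mul (he i))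
  haveI : IsIntegralClosure (Fin n → PowerSeries k) B Q := by
    refine ⟨hG, fun {q} => ⟨fun hq => ?_, ?_⟩⟩
    · obtain ⟨⟨a, b⟩, hab⟩ := IsLocalization.surj B⁰ q
      obtain ⟨p, hp, hpq⟩ := hq
      have hb : ∀ i, φ (b : B) i ≠ 0 := fun i hi => by
        obtain ⟨e, he⟩ := hmem (Pi.single i PowerSeries.X) fun j => by
          rcases eq_or_ne j i with rfl | hj
          · simp
          · simp [Pi.single_eq_of_ne hj]
        have h1 : e * (b : B) = 0 := hinj (funext fun j => by
          rw [map_mul, map_zero, Pi.mul_apply, he, Pi.zero_apply]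
          rcases eq_or_ne j i with rfl | hj
          · rw [hi, mul_zero]
          · rw [Pi.single_eq_of_ne hj, zero_mul])
        have h2 : e = 0 := mem_nonZeroDivisors_iff_right.1 b.2 e h1
        rw [h2, map_zero] at he
        exact PowerSeries.X_ne_zero ((congrFun he i).trans (Pi.single_eq_same (M := fun _ : Fin n => PowerSeries k) i PowerSeries.X)).symm
      have key : ∀ i, ∃ f : PowerSeries k, f * φ (b : B) i = φ a i := by
        intro i
        let K := FractionRing (PowerSeries k)
        let ev : B →+* PowerSeries k := (Pi.evalRingHom (fun _ : Fin n => PowerSeries k) i).comp φ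
        have hev : ∀ t : B⁰, IsUnit ((algebraMap (PowerSeries k) K).comp ev t) := fun t => by
          refine isUnit_iff_ne_zero.2 ((map_ne_zero_iff _ (IsFractionRing.injective (PowerSeries k) K)).2 fun ht => ?_)
          obtain ⟨e, he⟩ := hmem (Pi.single i PowerSeries.X) fun j => by
            rcases eq_or_ne j i with rfl | hj
            · simp
            · simp [Pi.single_eq_of_ne hj]
          have h1 : e * (t : B) = 0 := hinj (funext fun j => by
            rw [map_mul, map_zero, Pi.mul_apply, he, Pi.zero_apply]
            rcases eq_or_ne j i with rfl | hj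
            · rw [show φ (t : B) j = 0 from ht, mul_zero]
            · rw [Pi.single_eq_of_ne hj, zero_mul])
          have h2 : e = 0 := mem_nonZeroDivisors_iff_right.1 t.2 e h1
          rw [h2, map_zero] at he
          exact PowerSeries.X_ne_zero ((congrFun he i).trans (Pi.single_eq_same (M := fun _ : Fin n => PowerSeries k) i PowerSeries.X)).symm
        let L : Q →+* K := IsLocalization.lift hev
        have hLq : IsIntegral (PowerSeries k) (L q) := by
          refine ⟨p.map ev, hp.map _, ?_⟩
          rw [Polynomial.eval₂_map]
          have h4 := congrArg L hpq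
          rw [map_zero, Polynomial.hom_eval₂] at h4
          rwa [show L.comp (algebraMap B Q) = (algebraMap (PowerSeries k) K).comp ev from IsLocalization.lift_comp hev] at h4
        obtain ⟨f, hf⟩ := IsIntegrallyClosed.isIntegral_iff.1 hLq
        refine ⟨f, IsFractionRing.injective (PowerSeries k) K ?_⟩
        have h5 := congrArg L hab
        rw [map_mul, IsLocalization.lift_eq, IsLocalization.lift_eq] at h5
        rw [map_mul, hf]
        exact h5
      choose f hf using key
      refine ⟨f, (IsLocalization.map_units Q b).mul_right_cancel ?_⟩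
      rw [RingHom.algebraMap_toAlgebra, hab, ← hgφ (φ (b : B)) b rfl]
      show G f * G (φ (b : B)) = algebraMap B Q a
      rw [← map_mul, show f * φ (b : B) = φ a from funext hf]
      exact hgφ _ a rfl
    · rintro ⟨f, rfl⟩
      exact (hint f).algebraMap
  let e : (Fin n → PowerSeries k) ≃ₐ[B] ↥(integralClosure B Q) :=
    IsIntegralClosure.equiv B (Fin n → PowerSeries k) Q _
  refine ⟨?_, ?_⟩
  · rw [numBranches_eq_card]
    let M : Fin n → MaximalSpectrum ↥(integralClosure B Q) := fun i =>
      ⟨((maximalIdeal (PowerSeries k)).comap (Pi.evalRingHom (fun _ : Fin n => PowerSeries k) i)).comap e.symm.toRingEquiv.toRingHom,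
        Ideal.comap_isMaximal_of_surjective _ e.symm.surjective
          (H := Ideal.comap_isMaximal_of_surjective _ (Function.surjective_eval i))⟩
    have hM : Function.Bijective M := by
      refine ⟨fun i j h => ?_, fun q => ?_⟩
      · by_contra hne
        have h1 : e (Pi.single j 1) ∈ (M i).asIdeal := by
          show (e.symm (e (Pi.single j 1))) i ∈ maximalIdeal (PowerSeries k)
          rw [e.symm_apply_apply, Pi.single_eq_of_ne hne]
          exact Submodule.zero_mem _
        rw [h] at h1
        have h2 : (e.symm (e (Pi.single j 1))) j ∈ maximalIdeal (PowerSeries k) := h1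
        rw [e.symm_apply_apply, Pi.single_eq_same] at h2
        exact h2 isUnit_one
      · haveI := q.isMaximal
        let q' := q.asIdeal.comap e.toRingEquiv.toRingHom
        haveI : q'.IsMaximal := Ideal.comap_isMaximal_of_surjective _ e.surjective
        obtain ⟨i, hi⟩ : ∃ i, Pi.single i (1 : PowerSeries k) ∉ q' := by
          by_contra hall
          push_neg at hall
          refine (Ideal.IsMaximal.ne_top ‹q'.IsMaximal›) ((Ideal.eq_top_iff_one _).2 ?_)
          rw [← Finset.univ_sum_single (1 : Fin n → PowerSeries k)]
          exact Ideal.sum_mem _ fun i _ => hall i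
        refine ⟨i, MaximalSpectrum.ext (((M i).isMaximal.eq_of_le q.isMaximal.ne_top fun z hz => ?_))⟩
        have hz' : (e.symm z) i ∈ maximalIdeal (PowerSeries k) := hz
        by_contra hzq
        have hzq' : e.symm z ∉ q' := fun h => hzq (by
          have h' : e (e.symm z) ∈ q.asIdeal := h
          rwa [e.apply_symm_apply] at h')
        obtain ⟨r, w, hw, hsum⟩ := Ideal.IsMaximal.exists_inv ‹q'.IsMaximal› hzq'
        have hwi : IsUnit (w i) := by
          by_contra hu
          have h6 : (r * e.symm z + w) i ∈ maximalIdeal (PowerSeries k) :=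
            add_mem (Ideal.mul_mem_left _ _ hz') hu
          rw [hsum] at h6
          exact h6 isUnit_one
        obtain ⟨v, hv⟩ := hwi
        refine hi ?_
        rw [show Pi.single i (1 : PowerSeries k) = Pi.single i (↑v⁻¹ : PowerSeries k) * w from funext fun j => by
          rcases eq_or_ne j i with rfl | hj
          · rw [Pi.mul_apply, Pi.single_eq_same, Pi.single_eq_same, ← hv, Units.inv_mul]
          · rw [Pi.mul_apply, Pi.single_eq_of_ne hj, Pi.single_eq_of_ne hj, zero_mul]]
        exact Ideal.mul_mem_left _ _ hw
    rw [← ENat.card_congr (Equiv.ofBijective M hM), ENat.card_eq_coe_fintype_card, Fintype.card_fin]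
  · have hmap : (LinearMap.range (Algebra.linearMap B (Fin n → PowerSeries k))).map (e.toLinearEquiv : _ →ₗ[B] _) =
        LinearMap.range (Algebra.linearMap B ↥(integralClosure B Q)) := by
      rw [← LinearMap.range_comp]
      congr 1
      exact LinearMap.ext fun c => e.commutes c
    rw [Curv2.deltaInv, ← (Submodule.Quotient.equiv _ _ e.toLinearEquiv hmap).length_eq]
    -- the quotient is `k^n` modulo constants
    let χ : B →+* k := (PowerSeries.constantCoeff.comp (Pi.evalRingHom (fun _ : Fin n => PowerSeries k) i₀)).comp φ
    have hχ : ∀ (b : B) (i : Fin n), PowerSeries.constantCoeff (φ b i) = χ b := fun b i => by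
      have hb : φ b ∈ Set.range φ := ⟨b, rfl⟩
      rw [hrange] at hb
      exact hb i i₀
    have hχs : Function.Surjective χ := fun c => by
      obtain ⟨b, hb⟩ := hconst c
      exact ⟨b, show PowerSeries.constantCoeff (φ b i₀) = c by rw [hb, PowerSeries.constantCoeff_C]⟩
    have hker : RingHom.ker χ = maximalIdeal B :=
      IsLocalRing.eq_maximalIdeal (RingHom.ker_isMaximal_of_surjective χ hχs)
    let τ : ResidueField B ≃+* k :=
      (Ideal.quotEquivOfEq hker.symm).trans (RingHom.quotientKerEquivOfSurjective hχs)
    have hτ : ∀ b, τ (residue B b) = χ b := fun b => rfl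
    let T : (Fin n → PowerSeries k) →ₗ[B] (Fin n → ResidueField B) :=
      { toFun := fun f i => τ.symm (PowerSeries.constantCoeff (f i))
        map_add' := fun f f' => funext fun i => by simp
        map_smul' := fun b f => funext fun i => by
          rw [RingHom.id_apply, Pi.smul_apply, Algebra.smul_def, Pi.mul_apply, Algebra.smul_def,
            ResidueField.algebraMap_eq, RingHom.algebraMap_toAlgebra, map_mul, map_mul, hχ, ← hτ,
            τ.symm_apply_apply] }
    let D : Submodule (ResidueField B) (Fin n → ResidueField B) :=
      LinearMap.range (LinearMap.pi fun _ : Fin n => (LinearMap.id : ResidueField B →ₗ[ResidueField B] ResidueField B))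
    let T' : (Fin n → PowerSeries k) →ₗ[B] ((Fin n → ResidueField B) ⧸ D.restrictScalars B) :=
      (D.restrictScalars B).mkQ ∘ₗ T
    have hT' : Function.Surjective T' := (Submodule.mkQ_surjective _).comp fun v =>
      ⟨fun i => PowerSeries.C (τ (v i)), funext fun i => by
        show τ.symm (PowerSeries.constantCoeff (PowerSeries.C (τ (v i)))) = v i
        rw [PowerSeries.constantCoeff_C, τ.symm_apply_apply]⟩
    have hkerT : LinearMap.range (Algebra.linearMap B (Fin n → PowerSeries k)) = LinearMap.ker T' := by
      ext f
      rw [LinearMap.mem_ker, show T' f = Submodule.Quotient.mk (T f) from rfl, Submodule.Quotient.mk_eq_zero]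
      constructor
      · rintro ⟨b, rfl⟩
        exact ⟨residue B b, funext fun i => τ.injective
          ((hτ b).trans ((hχ b i).symm.trans (τ.apply_symm_apply _).symm))⟩
      · rintro ⟨c, hc⟩
        have : f ∈ Set.range φ := by
          rw [hrange]
          intro i j
          exact τ.symm.injective ((congrFun hc i).symm.trans (congrFun hc j))
        obtain ⟨b, hb⟩ := this
        exact ⟨b, hb⟩
    rw [((Submodule.quotEquivOfEq _ _ hkerT).trans (T'.quotKerEquivOfSurjective hT')).length_eq,
      (Submodule.Quotient.restrictScalarsEquiv B D).length_eq,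
      Module.length_eq_of_surjective (S := B) IsLocalRing.residue_surjective, Module.length_eq_finrank]
    have hD : Module.finrank (ResidueField B) D = 1 := by
      rw [LinearMap.finrank_range_of_inj, Module.finrank_self]
      exact fun a b h => congrFun h i₀
    have hq := Submodule.finrank_quotient_add_finrank D
    rw [hD, Module.finrank_fin_fun] at hq
    exact_mod_cast hq

end MultiPtLib

end
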