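import Groth.Agent.MultiPtLib.Invariants
import Groth.Agent.MultiPtLib.Axes
import Groth.Agent.MultiPtLib.Multicross
import Groth.Agent.DeltaBaseLib.Main
import Groth.Agent.NormGenusLib.Euler
import Groth.Agent.HenselBranchLib.DimOneBranch
import Groth.Agent.FibDimLib.Pure
import Groth.Agent.S7654

/-!
# Ordinary multiple points
-/

set_option autoImplicit false
set_option linter.style.haveILetI false

universe u

open CategoryTheory CategoryTheory.Limits AlgebraicGeometry IsLocalRing

noncomputable section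

namespace MultiPtLib

variable (k : Type u) [Field k] [IsAlgClosed k] (X : Scheme.{u}) [X.Over (Spec (CommRingCat.of k))]
  [LocallyOfFiniteType (X ↘ (Spec (CommRingCat.of k)))] [AlgebraicGeometry.IsReduced X]
  (hequi : ∀ Z ∈ irreducibleComponents (X : Type u), topologicalKrullDim Z = 1)
  (x : X) (hx : IsClosed ({x} : Set X))

include hequi hx in
theorem dim_stalk : ringKrullDim (X.presheaf.stalk x) = 1 :=
  ringKrullDim_stalk_closed (FibDimLib.IsPureDim.topologicalKrullDim_le (A := X) (e := 1) hequi) hequi hx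

include hx in
theorem surjective_residue :
    letI := Curv2.stalkAlgebra k X x
    Function.Surjective (algebraMap k (ResidueField (X.presheaf.stalk x))) := by
  letI := Curv2.stalkAlgebra k X x
  intro z
  obtain ⟨c, hc⟩ := (NormGenusLib.resMap_bijective (k := k) hx).2 z
  exact ⟨c, hc⟩

abbrev Cross (n : ℕ) : Type u := MvPowerSeries (Fin n) k ⧸ Ideal.span {f : MvPowerSeries (Fin n) k |
  ∃ i j : Fin n, i ≠ j ∧ f = MvPowerSeries.X i * MvPowerSeries.X j}

include hequi hx in
theorem invariants_of_completion (n : ℕ) (e : Curv2.cpl (X.presheaf.stalk x) ≃+* Cross k n) :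
    Brnch.numBranchesAt X x = n ∧ Curv2.deltaInv (X.presheaf.stalk x) + 1 = n := by
  let A := X.presheaf.stalk x
  have hdim := dim_stalk X hequi x hx
  have hN := DeltaBaseLib.isNagata_stalk k x
  haveI := hN.1
  rcases Nat.eq_zero_or_pos n with rfl | hn
  · exfalso
    have hm : maximalIdeal A ≠ ⊥ := fun h0 => by
      have h1 := ringKrullDim_eq_zero_of_isField (isField_iff_maximalIdeal_eq.2 h0)
      rw [hdim] at h1
      exact one_ne_zero h1
    obtain ⟨a, ha, ha0⟩ := Submodule.exists_mem_ne_zero_of_ne_bot hm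
    have hbot : Ideal.span {f : MvPowerSeries (Fin 0) k |
        ∃ i j : Fin 0, i ≠ j ∧ f = MvPowerSeries.X i * MvPowerSeries.X j} = ⊥ := by
      refine Ideal.span_eq_bot.2 ?_
      rintro f ⟨i, -⟩
      exact i.elim0
    let ea : Cross k 0 ≃+* MvPowerSeries (Fin 0) k := (Ideal.quotEquivOfEq hbot).trans (RingEquiv.quotientBot _)
    have hu : IsUnit (algebraMap A (AdicCompletion (maximalIdeal A) A) a) := by
      have hinj : Function.Injective (algebraMap A (AdicCompletion (maximalIdeal A) A)) :=
        AdicCompletion.of_injective (maximalIdeal A) A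
      refine (MulEquiv.isUnit_map (e.trans ea).toMulEquiv).1 ?_
      refine MvPowerSeries.isUnit_iff_constantCoeff.2 (isUnit_iff_ne_zero.2 fun h0 => ha0 (hinj ?_))
      have h2 : (e.trans ea) (algebraMap A (AdicCompletion (maximalIdeal A) A) a) = 0 := MvPowerSeries.ext fun d => by
        rw [Subsingleton.elim d 0, map_zero, MvPowerSeries.coeff_zero_eq_constantCoeff_apply]
        exact h0
      rw [map_zero]
      exact (e.trans ea).injective (h2.trans (map_zero _).symm)
    have hu1 := hu.map (AdicCompletion.evalₐ (maximalIdeal A) 1)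
    rw [AlgHom.commutes, show algebraMap A (A ⧸ maximalIdeal A ^ 1) a = 0 from
      Ideal.Quotient.eq_zero_iff_mem.2 (by rwa [pow_one])] at hu1
    rw [isUnit_zero_iff, eq_comm, ← map_one (Ideal.Quotient.mk (maximalIdeal A ^ 1)), Ideal.Quotient.eq_zero_iff_mem,
      pow_one] at hu1
    exact (maximalIdeal.isMaximal A).ne_top ((Ideal.eq_top_iff_one _).2 hu1)
  · obtain ⟨ψ, hψ, -, hψr⟩ := exists_quot_hom (k := k) hn
    haveI : IsNoetherianRing (Curv2.cpl A) := Groth.Agent.S0543.result A (maximalIdeal A)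
    obtain ⟨h1, h2⟩ := multicross_invariants hn (Curv2.cpl A) (ψ.comp e.toRingHom) (hψ.comp e.injective) (by
      rw [← hψr]
      exact Set.ext fun f => ⟨fun ⟨y, hy⟩ => ⟨e y, hy⟩, fun ⟨y, hy⟩ => ⟨e.symm y, by simpa using hy⟩⟩)
    refine ⟨?_, ?_⟩
    · exact ((HenselBranchLib.numBranches_completion_eq A hdim.le).1.symm).trans h1
    · rw [← (Groth.Agent.S7654.result A hN hdim).2.2]
      exact h2

include hequi hx in
theorem completion_of_delta (m : ℕ) (hm : Brnch.numBranchesAt X x = m)
    (hδ : Curv2.deltaInv (X.presheaf.stalk x) + 1 = m) :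
    (∃ e : Curv2.cpl (X.presheaf.stalk x) ≃+* Cross k m,
      ∀ c : k, e (algebraMap (X.presheaf.stalk x) (Curv2.cpl (X.presheaf.stalk x)) (Curv2.stalkMap k X x c)) =
        Ideal.Quotient.mk _ (MvPowerSeries.C c)) ∧
    Module.finrank (ResidueField (X.presheaf.stalk x)) (CotangentSpace (X.presheaf.stalk x)) = m := by
  let A := X.presheaf.stalk x
  letI := Curv2.stalkAlgebra k X x
  have hdim := dim_stalk X hequi x hx
  have hN := DeltaBaseLib.isNagata_stalk k x
  haveI := hN.1
  have hres := surjective_residue k X x hx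
  obtain ⟨φ, hφ, hφC, hφr, hker, happ⟩ := exists_multicross_of_delta k A hdim hN hres m hm hδ
  have hm0 : 0 < m := by
    have h1 := one_le_numBranches A
    rw [show Brnch.numBranches A = (m : ℕ∞) from hm] at h1
    exact_mod_cast h1
  obtain ⟨ψ, hψ, hψC, hψr⟩ := exists_quot_hom (k := k) hm0
  refine ⟨?_, finrank_cotangent_eq φ hφC hres hker happ hφr⟩
  have hex : ∀ ξ, ∃ y, ψ y = φ ξ := fun ξ => by
    have h1 : φ ξ ∈ Set.range φ := ⟨ξ, rfl⟩
    rw [hφr, ← hψr] at h1
    exact h1
  choose g hg using hex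
  let G : Curv2.cpl A →+* Cross k m :=
    { toFun := g
      map_one' := hψ (by rw [hg, map_one, map_one])
      map_zero' := hψ (by rw [hg, map_zero, map_zero])
      map_add' := fun a b => hψ (by rw [hg, map_add, map_add, hg, hg])
      map_mul' := fun a b => hψ (by rw [hg, map_mul, map_mul, hg, hg]) }
  have hG : Function.Bijective G := by
    refine ⟨fun a b h => hφ (by rw [← hg, ← hg, show g a = g b from h]), fun y => ?_⟩
    obtain ⟨ξ, hξ⟩ : ψ y ∈ Set.range φ := by
      rw [hφr, ← hψr]
      exact ⟨y, rfl⟩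
    exact ⟨ξ, hψ ((hg ξ).trans hξ)⟩
  exact ⟨RingEquiv.ofBijective G hG, fun c => hψ ((hg _).trans ((hφC c).trans (hψC c).symm))⟩

end MultiPtLib

end
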